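import Mathlib
import Cfsg.Agent.Lib.Grp.PQ.Util

/-!
An abelian group of operators on a module: an operator centralizing a cyclic quotient without fixed
points, and triviality modulo a subgroup from translated operators.
-/

set_option autoImplicit false
set_option linter.unusedSectionVars false
set_option linter.style.haveILetI false

namespace Cfsg.Agent.Grp.PQ

open scoped Pointwise commutatorElement

variable {X : Type*} [Group X] [Finite X]

section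
variable {W : Type*} [CommGroup W] [MulDistribMulAction X W]

/-- The vectors fixed by `K` and killed by the product over `Z`. -/
def fixKer (Z K : Subgroup X) : Subgroup W where
  carrier := {w | (∀ k ∈ K, k • w = w) ∧ avg Z w = 1}
  one_mem' := ⟨fun k _ => smul_one k, map_one _⟩
  mul_mem' := fun {u v} hu hv => ⟨fun k hk => by rw [smul_mul', hu.1 k hk, hv.1 k hk],
    by rw [map_mul, hu.2, hv.2, one_mul]⟩
  inv_mem' := fun {u} hu => ⟨fun k hk => by rw [smul_inv', hu.1 k hk], by rw [map_inv, hu.2, inv_one]⟩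

theorem mem_fixKer {Z K : Subgroup X} {w : W} : w ∈ fixKer Z K ↔ (∀ k ∈ K, k • w = w) ∧ avg Z w = 1 := Iff.rfl

theorem smul_mem_fixKer {Z K : Subgroup X} {g : X} (hgZ : g ∈ Subgroup.normalizer (Z : Set X))
    (hgK : g ∈ Subgroup.normalizer (K : Set X)) {w : W} (hw : w ∈ fixKer Z K) : g • w ∈ fixKer Z K := by
  refine ⟨fun k hk => ?_, by rw [avg_smul hgZ, hw.2, smul_one]⟩
  rw [smul_smul, show k * g = g * (g⁻¹ * k * g) by group, mul_smul, hw.1 _ (mem_conj_normalizer' hgK hk)]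

/-- An operator normalizing `K`, centralizing the cyclic factor `Z / K`, without fixed vectors. -/
theorem exists_operator [Finite W] {A Z K : Subgroup X} (hA : IsOp A)
    (hAZ : A ≤ Subgroup.normalizer (Z : Set X)) (hab : ∀ x ∈ Z, ∀ y ∈ Z, x * y = y * x) (hKZ : K ≤ Z)
    (hcop : (Nat.card Z).Coprime (Nat.card W)) (hcopA : (Nat.card A).Coprime (Nat.card Z))
    (hZA : Z ⊓ Subgroup.centralizer (A : Set X) = ⊥) (hWA : ∀ w : W, (∀ a ∈ A, a • w = w) → w = 1)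
    (hgen : ∀ z ∈ Z, z ∉ K → Z ≤ K ⊔ Subgroup.zpowers z) (hne : ∃ d ∈ fixKer (W := W) Z K, d ≠ 1) :
    ∃ a ∈ A, a ≠ 1 ∧ a ∈ Subgroup.normalizer (K : Set X) ∧ (∀ z ∈ Z, a * z * a⁻¹ * z⁻¹ ∈ K) ∧
      ∀ w ∈ fixKer (W := W) Z K, a • w = w → w = 1 := by
  classical
  have hZZ : ∀ L : Subgroup X, L ≤ Z → Z ≤ Subgroup.normalizer (L : Set X) := fun L hL z hz =>
    Subgroup.mem_normalizer_fintype fun l hl => by rw [hab z hz l (hL hl), mul_inv_cancel_right]; exact hl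
  have hZK := hZZ K hKZ
  have hrep : ∀ z ∈ Z, z ∉ K → ∀ y ∈ Z, ∃ i : ℤ, y * (z ^ i)⁻¹ ∈ K := by
    intro z hz hzK y hy
    have hy' : y ∈ ((K ⊔ Subgroup.zpowers z : Subgroup X) : Set X) := hgen z hz hzK hy
    rw [Subgroup.coe_mul_of_right_le_normalizer_left K _ ((Subgroup.zpowers_le.mpr (hZK hz)))] at hy'
    obtain ⟨k, hk, w, hw, rfl⟩ := hy'
    obtain ⟨i, rfl⟩ := Subgroup.mem_zpowers_iff.mp hw
    exact ⟨i, by rw [mul_inv_cancel_right]; exact hk⟩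
  obtain ⟨d₀, hd₀, hd₀1⟩ := hne
  obtain ⟨z₀, hz₀, hz₀K⟩ : ∃ z ∈ Z, z ∉ K := by
    by_contra h
    push Not at h
    exact hd₀1 (eq_one_of_fixed hcop (fun z hz => hd₀.1 z (h z hz)) hd₀.2)
  set B := A ⊓ Subgroup.normalizer (K : Set X) with hB
  have hcopK : (Nat.card K).Coprime (Nat.card W) := hcop.coprime_dvd_left (Subgroup.card_dvd_of_le hKZ)
  have hBfix : ∀ w ∈ fixKer (W := W) Z K, (∀ b ∈ B, b • w = w) → w = 1 := by
    intro w hw hwB
    refine eq_one_of_pow hcopK ?_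
    rw [← avg_of_fixed hw.1]
    refine proj_eq_one (A := A) (B := B) (avg K) hwB (fun c hc hcB => ?_) hWA
    obtain ⟨k, hk, hkK⟩ : ∃ k ∈ K, c * k * c⁻¹ ∉ K := by
      by_contra h
      push Not at h
      exact hcB ⟨hc, Subgroup.mem_normalizer_fintype fun k hk => h k hk⟩
    have hk' : c * k * c⁻¹ ∈ Z := mem_conj_normalizer (hAZ hc) (hKZ hk)
    set u := avg K (c • w) with hu
    have h1 : ∀ x ∈ K, x • u = u := fun x hx => smul_avg hx _
    have h2 : (c * k * c⁻¹) • u = u := by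
      rw [hu, ← avg_smul (hZK hk'), smul_smul, inv_mul_cancel_right, mul_smul, hw.1 k hk]
    refine eq_one_of_fixed hcop (fun z hz => ?_) (avg_avg_eq_one (hKZ.trans Subgroup.le_normalizer) ?_)
    · exact (sup_le (fun x hx => h1 x hx) (Subgroup.zpowers_le.mpr h2) :
        K ⊔ Subgroup.zpowers (c * k * c⁻¹) ≤ MulAction.stabilizer X u) (hgen _ hk' hkK hz)
    · rw [avg_smul (hAZ hc), hw.2, smul_one]
  have hBb : B ≠ ⊥ := fun e => hd₀1 (hBfix d₀ hd₀ fun b hb => by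
    rw [(Subgroup.eq_bot_iff_forall B).mp e b hb, one_smul])
  -- an element normalizing `K` and not centralizing the factor moves it without fixed points
  have hfpf : ∀ x ∈ A, x ∈ Subgroup.normalizer (K : Set X) → ¬ (∀ z ∈ Z, x * z * x⁻¹ * z⁻¹ ∈ K) →
      ∀ i, 0 < i → i < orderOf x → ∀ t ∈ Z, t * x ^ i * t⁻¹ * (x ^ i)⁻¹ ∈ K → t ∈ K := by
    intro x hx hxK hnot i hi him t ht hmem
    by_contra htK
    have hx1 : x ≠ 1 := fun e => hnot fun z _ => by rw [e]; simp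
    have hpr := hA.prime_orderOf hx hx1
    have hxi : x ^ i ∈ trivPart Z K := by
      refine ⟨pow_mem (hAZ hx) i, pow_mem hxK i, fun z hz => ?_⟩
      obtain ⟨j, hj⟩ := hrep t ht htK z hz
      set y := x ^ i with hy
      have hyK : y ∈ Subgroup.normalizer (K : Set X) := pow_mem hxK i
      have hyZ : y ∈ Subgroup.normalizer (Z : Set X) := pow_mem (hAZ hx) i
      -- `y` fixes `t` modulo `K`, hence every power of `t`
      have hc : Commute t (y * t⁻¹ * y⁻¹) := hab _ ht _ (mem_conj_normalizer hyZ (Z.inv_mem ht))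
      have e1 : t ^ j * (y * (t ^ j)⁻¹ * y⁻¹) ∈ K := by
        have h1 : t * (y * t⁻¹ * y⁻¹) ∈ K := by simpa [mul_assoc] using hmem
        have h2 := K.zpow_mem h1 j
        rwa [hc.mul_zpow, conj_zpow, inv_zpow] at h2
      have e2 : (z * (t ^ j)⁻¹) * (y * (z * (t ^ j)⁻¹)⁻¹ * y⁻¹) ∈ K :=
        K.mul_mem hj (mem_conj_normalizer hyK (K.inv_mem hj))
      have hzj : t ^ j ∈ Z := Z.zpow_mem ht j
      have h3 := K.mul_mem e2 e1
      show ⁅z, y⁆ ∈ K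
      have hcomm : Commute (y * (z * (t ^ j)⁻¹)⁻¹ * y⁻¹) (t ^ j) :=
        hab _ (mem_conj_normalizer hyZ (Z.inv_mem (Z.mul_mem hz (Z.inv_mem hzj)))) _ hzj
      have e : z * (t ^ j)⁻¹ * (y * (z * (t ^ j)⁻¹)⁻¹ * y⁻¹) * (t ^ j * (y * (t ^ j)⁻¹ * y⁻¹)) =
          z * (t ^ j)⁻¹ * ((y * (z * (t ^ j)⁻¹)⁻¹ * y⁻¹) * t ^ j) * (y * (t ^ j)⁻¹ * y⁻¹) := by group
      rw [e, hcomm.eq] at h3
      rw [commutatorElement_def, show z * y * z⁻¹ * y⁻¹ = z * y * (t ^ j * z⁻¹ * (t ^ j)⁻¹) * y⁻¹ by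
        rw [hab _ hzj _ (Z.inv_mem hz), mul_inv_cancel_right]]
      convert h3 using 1
      group
    refine hnot fun z hz => ?_
    have hle : Subgroup.zpowers x ≤ trivPart Z K := by
      refine le_trans (le_of_eq ?_) (Subgroup.zpowers_le.mpr hxi)
      refine le_antisymm (Subgroup.zpowers_le.mpr (mem_zpowers_pow_iff.mpr ?_))
        (Subgroup.zpowers_le.mpr (pow_mem (Subgroup.mem_zpowers x) i))
      exact (hpr.coprime_iff_not_dvd.mpr (Nat.not_dvd_of_pos_of_lt hi him)).symm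
    have h := K.inv_mem ((hle (Subgroup.mem_zpowers x)).2.2 z hz)
    rwa [commutatorElement_inv, commutatorElement_def] at h
  by_cases hBA : B = A
  · have hAK : A ≤ Subgroup.normalizer (K : Set X) := fun a ha => (hBA ▸ ha : a ∈ B).2
    have hder : ⁅A, A⁆ ≤ trivPart Z K := by
      rw [Subgroup.commutator_le]
      intro b hb c hc
      obtain ⟨i, hi⟩ := hrep z₀ hz₀ hz₀K _ (mem_conj_normalizer (inv_mem (hAZ hb)) hz₀)
      obtain ⟨j, hj⟩ := hrep z₀ hz₀ hz₀K _ (mem_conj_normalizer (inv_mem (hAZ hc)) hz₀)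
      have hgen' : ∀ g ∈ A, ∀ (l : ℤ) (e : ℤ), g * z₀ * g⁻¹ * (z₀ ^ l)⁻¹ ∈ K →
          g * z₀ ^ e * g⁻¹ * (z₀ ^ (l * e))⁻¹ ∈ K := by
        intro g hg l e h
        have hc : Commute (g * z₀ * g⁻¹) (z₀ ^ l)⁻¹ :=
          hab _ (mem_conj_normalizer (hAZ hg) hz₀) _ (Z.inv_mem (Z.zpow_mem hz₀ l))
        have h2 := K.zpow_mem h e
        rwa [hc.mul_zpow, conj_zpow, inv_zpow, ← zpow_mul] at h2
      have h1 : (b⁻¹ * c⁻¹) * z₀ * (b⁻¹ * c⁻¹)⁻¹ * (z₀ ^ (i * j))⁻¹ ∈ K := by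
        have ha := mem_conj_normalizer (hAK (A.inv_mem hb)) hj
        have hb' := hgen' b⁻¹ (A.inv_mem hb) i j hi
        have := K.mul_mem ha hb'
        convert this using 1
        group
      have h2 : (c⁻¹ * b⁻¹) * z₀ * (c⁻¹ * b⁻¹)⁻¹ * (z₀ ^ (i * j))⁻¹ ∈ K := by
        have ha := mem_conj_normalizer (hAK (A.inv_mem hc)) hi
        have hb' := hgen' c⁻¹ (A.inv_mem hc) j i hj
        rw [mul_comm i j]
        have := K.mul_mem ha hb'
        convert this using 1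
        group
      have hbc : ⁅b, c⁆ ∈ A := A.mul_mem (A.mul_mem (A.mul_mem hb hc) (A.inv_mem hb)) (A.inv_mem hc)
      refine ⟨hAZ hbc, hAK hbc, fun z hz => ?_⟩
      -- on the generator
      have h3 : z₀ * (⁅b, c⁆ * z₀⁻¹ * ⁅b, c⁆⁻¹) ∈ K := by
        have h4 := K.mul_mem h2 (K.inv_mem h1)
        have h6 := mem_conj_normalizer (hAK (A.mul_mem hb hc)) h4
        convert h6 using 1
        simp only [commutatorElement_def]
        group
      obtain ⟨e, he⟩ := hrep z₀ hz₀ hz₀K z hz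
      set f := ⁅b, c⁆
      have hc' : Commute z₀ (f * z₀⁻¹ * f⁻¹) := hab _ hz₀ _ (mem_conj_normalizer (hAZ hbc) (Z.inv_mem hz₀))
      have h7 := K.zpow_mem h3 e
      rw [hc'.mul_zpow, conj_zpow, inv_zpow] at h7
      have h8 : (z * (z₀ ^ e)⁻¹) * (f * (z * (z₀ ^ e)⁻¹)⁻¹ * f⁻¹) ∈ K :=
        K.mul_mem he (mem_conj_normalizer (hAK hbc) (K.inv_mem he))
      have h9 := K.mul_mem h8 h7
      have hze : z₀ ^ e ∈ Z := Z.zpow_mem hz₀ e
      have hcomm : Commute (f * (z * (z₀ ^ e)⁻¹)⁻¹ * f⁻¹) (z₀ ^ e) :=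
        hab _ (mem_conj_normalizer (hAZ hbc) (Z.inv_mem (Z.mul_mem hz (Z.inv_mem hze)))) _ hze
      have e' : z * (z₀ ^ e)⁻¹ * (f * (z * (z₀ ^ e)⁻¹)⁻¹ * f⁻¹) * (z₀ ^ e * (f * (z₀ ^ e)⁻¹ * f⁻¹)) =
          z * (z₀ ^ e)⁻¹ * ((f * (z * (z₀ ^ e)⁻¹)⁻¹ * f⁻¹) * z₀ ^ e) * (f * (z₀ ^ e)⁻¹ * f⁻¹) := by group
      rw [e', hcomm.eq] at h9
      show ⁅z, f⁆ ∈ K
      rw [commutatorElement_def z f, show z * f * z⁻¹ * f⁻¹ = z * f * (z₀ ^ e * z⁻¹ * (z₀ ^ e)⁻¹) * f⁻¹ by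
        rw [hab _ hze _ (Z.inv_mem hz), mul_inv_cancel_right]]
      convert h9 using 1
      group
    obtain ⟨hdne, hdA, hdA'⟩ := hA.derived
    obtain ⟨f, hf, hf1⟩ := (Subgroup.bot_or_exists_ne_one ⁅A, A⁆).resolve_left hdne
    have hcentral : ∀ g ∈ trivPart Z K, ∀ z ∈ Z, g * z * g⁻¹ * z⁻¹ ∈ K := fun g hg z hz => by
      have h := K.inv_mem (hg.2.2 z hz)
      rwa [commutatorElement_inv, commutatorElement_def] at h
    obtain ⟨x, hx, hxnot⟩ : ∃ x ∈ A, ¬ ∀ z ∈ Z, x * z * x⁻¹ * z⁻¹ ∈ K := by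
      by_contra h
      push Not at h
      obtain ⟨c, hc, hcK⟩ := exists_fixed_rep A Z K hAZ (inf_eq_bot_of_coprime hcopA)
        (hcopA.coprime_dvd_right (Subgroup.card_dvd_of_le hKZ)) (Or.inl hA.solv) hKZ hZK hAK hz₀
        fun a ha => h a ha z₀ hz₀
      rw [hZA, Subgroup.mem_bot] at hc
      rw [hc, mul_one] at hcK
      exact hz₀K (inv_mem_iff.mp hcK)
    refine ⟨f, hdA hf, hf1, hAK (hdA hf), hcentral f (hder hf), fun w hw hfw => ?_⟩
    have hF : Subgroup.zpowers f = ⁅A, A⁆ := hA.eq_of_le (fun e => hf1 (Subgroup.zpowers_eq_bot.mp e))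
      (Subgroup.zpowers_le.mpr hf) hdA hdA'
    have hxF : x ∉ ⁅A, A⁆ := fun h => hxnot (hcentral x (hder h))
    have hgenA : ⁅A, A⁆ ⊔ Subgroup.zpowers x = A :=
      hA.sup_eq hdne hdA (Subgroup.zpowers_le.mpr hx) fun h => hxF (h (Subgroup.mem_zpowers x))
    refine twist (T := Z) (S := K) (x := x) (m := orderOf x) (orderOf_pos x) (pow_orderOf_eq_one x) (hAZ hx)
      (hAK hx) hZK (hfpf x hx (hAK hx) hxnot) hcop
      (fun u => u ∈ fixKer (W := W) Z K ∧ ∀ g ∈ ⁅A, A⁆, g • u = u)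
      (fun u v hu hv => ⟨Subgroup.mul_mem _ hu.1 hv.1, fun g hg => by rw [smul_mul', hu.2 g hg, hv.2 g hg]⟩)
      ⟨Subgroup.one_mem _, fun g _ => smul_one g⟩ (fun u hu => ⟨smul_mem_fixKer (hAZ hx) (hAK hx) hu.1, ?_⟩)
      (fun t ht u hu => ⟨smul_mem_fixKer (Subgroup.le_normalizer ht) (hZK ht) hu.1, ?_⟩)
      (fun u hu => hu.1.1) (fun u hu => hu.1.2) (fun u hu hxu => ?_) (w := w) ⟨hw, ?_⟩
    · intro g hg
      rw [smul_smul, show g * x = x * (x⁻¹ * g * x) by group, mul_smul, hu.2 _ ?_]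
      have hxN : x ∈ Subgroup.normalizer ((⁅A, A⁆ : Subgroup X) : Set X) :=
        right_le_normalizer_commutator A A hx
      exact mem_conj_normalizer' hxN hg
    · intro g hg
      rw [smul_smul, show g * t = t * (⁅t⁻¹, g⁆ * g) by simp [commutatorElement_def, mul_assoc], mul_smul,
        mul_smul, hu.2 g hg, hu.1.1 _ ((hder hg).2.2 t⁻¹ (Z.inv_mem ht))]
    · refine hWA u fun a ha => ?_
      exact ((sup_le (fun g hg => hu.2 g hg) (Subgroup.zpowers_le.mpr hxu) :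
        ⁅A, A⁆ ⊔ Subgroup.zpowers x ≤ MulAction.stabilizer X u)) (hgenA.ge ha)
    · rw [← hF]
      intro g hg
      exact (Subgroup.zpowers_le.mpr (show f ∈ MulAction.stabilizer X w from hfw)) hg
  · obtain ⟨a, ha, ha1⟩ := (Subgroup.bot_or_exists_ne_one B).resolve_left hBb
    have hB' : Subgroup.zpowers a = B := hA.eq_of_le (fun e => ha1 (Subgroup.zpowers_eq_bot.mp e))
      (Subgroup.zpowers_le.mpr ha) inf_le_left hBA
    have hCa : ∀ w ∈ fixKer (W := W) Z K, a • w = w → w = 1 := fun w hw haw => hBfix w hw fun b hb =>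
      (Subgroup.zpowers_le.mpr (show a ∈ MulAction.stabilizer X w from haw)) (hB'.ge hb)
    refine ⟨a, ha.1, ha1, ha.2, ?_, hCa⟩
    by_contra hnot
    refine hd₀1 (twist (T := Z) (S := K) (x := a) (m := orderOf a) (orderOf_pos a) (pow_orderOf_eq_one a)
      (hAZ ha.1) ha.2 hZK (hfpf a ha.1 ha.2 hnot) hcop (fun u => u ∈ fixKer (W := W) Z K)
      (fun u v hu hv => Subgroup.mul_mem _ hu hv) (Subgroup.one_mem _)
      (fun u hu => smul_mem_fixKer (hAZ ha.1) ha.2 hu)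
      (fun t ht u hu => smul_mem_fixKer (Subgroup.le_normalizer ht) (hZK ht) hu)
      (fun u hu => hu.1) (fun u hu => hu.2) hCa hd₀)

end

/-- Translated operators trivial modulo `K` force the translating group to be trivial modulo `K`. -/
theorem le_mod {A T Q Z K : Subgroup X} (hA : IsOp A) (hAQ : A ≤ Subgroup.normalizer (Q : Set X))
    (hAZ : A ≤ Subgroup.normalizer (Z : Set X)) (hTQ : T ≤ Subgroup.normalizer (Q : Set X))
    (hTZ : T ≤ Subgroup.normalizer (Z : Set X)) (hQZ : Q ≤ Subgroup.normalizer (Z : Set X))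
    (hAT : A ≤ Subgroup.normalizer (T : Set X)) (hZQ : Z ≤ Q) (hZK : Z ≤ K)
    (hab : ∀ x ∈ Q, ∀ y ∈ Q, ⁅x, y⁆ ∈ Z) (hcop : (Nat.card T).Coprime (Nat.card Q))
    (hcopAT : (Nat.card A).Coprime (Nat.card T)) (hcopAQ : (Nat.card A).Coprime (Nat.card Q))
    (hQA : Q ⊓ Subgroup.centralizer (A : Set X) = ⊥) (hTA : T ⊓ Subgroup.centralizer (A : Set X) = ⊥)
    (h : ∀ t ∈ T, ∃ a ∈ A, a ≠ 1 ∧ ∀ x ∈ Q, t⁻¹ * a * t * x * (t⁻¹ * a * t)⁻¹ * x⁻¹ ∈ K) :
    ∀ t ∈ T, ∀ x ∈ Q, t * x * t⁻¹ * x⁻¹ ∈ K := by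
  classical
  set Y := Subgroup.normalizer (Q : Set X) ⊓ Subgroup.normalizer (Z : Set X) with hY
  have hAY : A ≤ Y := le_inf hAQ hAZ
  have hTY : T ≤ Y := le_inf hTQ hTZ
  set Z' : Subgroup Q := Z.subgroupOf Q with hZ'
  haveI : Z'.Normal := Subgroup.normal_subgroupOf_of_le_normalizer hQZ
  let W := ↥Q ⧸ Z'
  letI : CommGroup W := { (inferInstance : Group W) with
    mul_comm := by
      rintro ⟨x⟩ ⟨y⟩
      refine (QuotientGroup.eq.mpr ?_ : (QuotientGroup.mk (x * y) : ↥Q ⧸ Z') = QuotientGroup.mk (y * x))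
      rw [Subgroup.mem_subgroupOf]
      have := hab _ (Q.inv_mem y.2) _ (Q.inv_mem x.2)
      convert this using 1
      simp [commutatorElement_def, mul_assoc] }
  let ρ : Y →* MulAut ↥Q := Q.normalizerMonoidHom.comp (Subgroup.inclusion inf_le_left)
  have hρ : ∀ (g : Y) (x : ↥Q), ((ρ g x : ↥Q) : X) = g * x * (g : X)⁻¹ := fun g x => rfl
  have hρZ : ∀ g : Y, Z' ≤ Z'.comap (ρ g).toMonoidHom := fun g x hx => by
    show ((ρ g x : ↥Q) : X) ∈ Z
    rw [hρ]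
    exact mem_conj_normalizer g.2.2 hx
  letI : MulDistribMulAction Y W :=
    { smul := fun g w => QuotientGroup.map Z' Z' (ρ g).toMonoidHom (hρZ g) w
      one_smul := by
        rintro ⟨x⟩
        show (QuotientGroup.mk (ρ 1 x) : ↥Q ⧸ Z') = QuotientGroup.mk x
        rw [map_one]; rfl
      mul_smul := by
        rintro g h ⟨x⟩
        show (QuotientGroup.mk (ρ (g * h) x) : ↥Q ⧸ Z') = QuotientGroup.mk (ρ g (ρ h x))
        rw [map_mul]; rfl
      smul_mul := fun g u v => map_mul _ u v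
      smul_one := fun g => map_one _ }
  let K' : Subgroup W := (K.subgroupOf Q).map (QuotientGroup.mk' Z')
  have hK' : ∀ x : ↥Q, (QuotientGroup.mk x : W) ∈ K' ↔ (x : X) ∈ K := by
    intro x
    refine ⟨?_, fun hx => ⟨x, hx, rfl⟩⟩
    rintro ⟨k, hk, hkx⟩
    have h1' : k⁻¹ * x ∈ Z' :=
      QuotientGroup.eq.mp (show (QuotientGroup.mk k : ↥Q ⧸ Z') = QuotientGroup.mk x from hkx)
    have h1 : (k : X)⁻¹ * x ∈ Z := h1'
    have hk' : (k : X) ∈ K := hk
    have h2 := K.mul_mem hk' (hZK h1)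
    rwa [mul_inv_cancel_left] at h2
  have hstab : ∀ g : Y, g ∈ stabMod K' ↔ ∀ x ∈ Q, (g : X) * x * (g : X)⁻¹ * x⁻¹ ∈ K := by
    intro g
    refine ⟨fun hg x hx => ?_, fun hg => ?_⟩
    · exact (hK' (ρ g ⟨x, hx⟩ * (⟨x, hx⟩ : ↥Q)⁻¹)).mp
        (show (QuotientGroup.mk (ρ g ⟨x, hx⟩) : W) * (QuotientGroup.mk (⟨x, hx⟩ : ↥Q) : W)⁻¹ ∈ K' from
          hg (QuotientGroup.mk ⟨x, hx⟩))
    · rintro ⟨x⟩
      exact (hK' (ρ g x * x⁻¹)).mpr (hg x x.2)
  have hcW : Nat.card W ∣ Nat.card Q := Subgroup.card_quotient_dvd_card Z'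
  have hcY : ∀ H : Subgroup X, H ≤ Y → Nat.card (H.subgroupOf Y) = Nat.card H := fun H hH =>
    Nat.card_congr (Subgroup.subgroupOfEquivOfLe hH).toEquiv
  have hmain : T.subgroupOf Y ≤ stabMod K' := by
    refine le_stabMod (A := A.subgroupOf Y) (hA.subgroupOf hAY) ?_ ?_ ?_ ?_ ?_ ?_ K' ?_
    · exact fun a ha => Subgroup.le_normalizer_comap Y.subtype (show a ∈ (Subgroup.normalizer (T : Set X)).comap Y.subtype from hAT ha)
    · rw [hcY T hTY]; exact hcop.coprime_dvd_right hcW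
    · rw [hcY T hTY, hcY A hAY]; exact hcopAT
    · rw [hcY A hAY]; exact hcopAQ.coprime_dvd_right hcW
    · rw [Subgroup.eq_bot_iff_forall]
      rintro ⟨t, htY⟩ ⟨ht, htc⟩
      refine Subtype.ext ((Subgroup.eq_bot_iff_forall _).mp hTA t ⟨ht, Subgroup.mem_centralizer_iff.mpr fun a ha => ?_⟩)
      exact congrArg Subtype.val (Subgroup.mem_centralizer_iff.mp htc (⟨a, hAY ha⟩ : Y) ha)
    · rintro ⟨x⟩ hfix
      refine (QuotientGroup.eq_one_iff x).mpr ?_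
      obtain ⟨c, hc, hcZ⟩ := exists_fixed_rep A Q Z hAQ (inf_eq_bot_of_coprime hcopAQ)
        (hcopAQ.coprime_dvd_right (Subgroup.card_dvd_of_le hZQ)) (Or.inl hA.solv) hZQ hQZ hAZ x.2 fun a ha => by
          have h1' : x⁻¹ * ρ ⟨a, hAY ha⟩ x ∈ Z' :=
            QuotientGroup.eq.mp (show (QuotientGroup.mk x : ↥Q ⧸ Z') = QuotientGroup.mk (ρ ⟨a, hAY ha⟩ x) from
              (hfix ⟨a, hAY ha⟩ ha).symm)
          have h1 : (x : X)⁻¹ * (a * x * a⁻¹) ∈ Z := h1'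
          have h2 := mem_conj_normalizer (hQZ x.2) h1
          convert h2 using 1
          group
      rw [hQA, Subgroup.mem_bot] at hc
      rw [hc, mul_one] at hcZ
      exact inv_mem_iff.mp hcZ
    · rintro ⟨t, htY⟩ ht
      obtain ⟨a, ha, ha1, hK⟩ := h t ht
      exact ⟨⟨a, hAY ha⟩, ha, fun e => ha1 (congrArg Subtype.val e), (hstab _).mpr hK⟩
  exact fun t ht x hx => (hstab ⟨t, hTY ht⟩).mp (hmain (show (⟨t, hTY ht⟩ : Y) ∈ T.subgroupOf Y from ht)) x hx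

end Cfsg.Agent.Grp.PQ
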