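import Mathlib
import Cfsg.Agent.Lib.Grp.PQ.Average
import Cfsg.Agent.Lib.Grp.CoprimeAbelian
import Cfsg.Agent.Lib.Transfer.FrobeniusFormula

/-!
An operator of order `2 ^ n + 1` on a symplectic 2-group of order `2 ^ (2n)`: whatever commutes with
it and has coprime order acts trivially.
-/

set_option autoImplicit false
set_option linter.unusedSectionVars false
set_option linter.style.haveILetI false

namespace Cfsg.Agent.Grp.PQ

variable {Y : Type*} [Group Y] [Finite Y] {W : Type*} [CommGroup W] [MulDistribMulAction Y W]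

/-- A product of translates by powers of `a`. -/
def powSum (a : Y) (L : List ℕ) (x : W) : W := ∏ i : Fin L.length, a ^ L[i] • x

theorem powSum_sq (a : Y) (hexp : ∀ w : W, w ^ 2 = 1) {ι : Type*} [Fintype ι] [DecidableEq ι] (f : ι → ℕ) (x : W) :
    ∏ i, a ^ f i • ∏ j, a ^ f j • x = ∏ i, a ^ (2 * f i) • x := by
  classical
  simp only [Finset.smul_prod', smul_smul, ← pow_add]
  rw [← Fintype.prod_prod_type' (f := fun i j => a ^ (f i + f j) • x)]
  rw [← Finset.prod_filter_mul_prod_filter_not Finset.univ (fun p : ι × ι => p.1 = p.2)]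
  have hoff : ∏ p ∈ Finset.univ.filter (fun p : ι × ι => ¬ p.1 = p.2), a ^ (f p.1 + f p.2) • x = 1 := by
    refine Finset.prod_involution (fun p _ => Prod.swap p) (fun p _ => ?_) (fun p hp _ e => ?_)
      (fun p hp => ?_) (fun p _ => Prod.swap_swap p)
    · show _ * a ^ (f p.2 + f p.1) • x = 1
      rw [add_comm (f p.2), ← sq]
      exact hexp _
    · simp only [Finset.mem_filter, Finset.mem_univ, true_and] at hp
      exact hp (congrArg Prod.fst e).symm
    · simp only [Finset.mem_filter, Finset.mem_univ, true_and, Prod.fst_swap, Prod.snd_swap] at hp ⊢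
      exact fun e => hp e.symm
  rw [hoff, mul_one]
  exact Finset.prod_bij' (fun p _ => p.1) (fun i _ => (i, i)) (fun _ _ => Finset.mem_univ _)
    (fun i _ => by simp) (fun p hp => by simp only [Finset.mem_filter] at hp; exact Prod.ext rfl hp.2)
    (fun i _ => rfl) (fun p hp => by simp only [Finset.mem_filter] at hp; rw [← hp.2, two_mul])

/-- An invariant subgroup without fixed points of an operator of order `2 ^ n + 1` is everything in a
group of order `2 ^ (2n)`. -/
theorem eq_of_invariant {n : ℕ} {m : ℕ} [hm : Fact m.Prime] (hmn : m = 2 ^ n + 1) {a : Y} (ham : a ^ m = 1)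
    {E S : Subgroup W} (hE : Nat.card E = 2 ^ (2 * n)) (hSE : S ≤ E) (hS : S ≠ ⊥)
    (hinv : ∀ x ∈ S, a • x ∈ S) (hfpf : ∀ x ∈ E, a • x = x → x = 1) : S = E := by
  classical
  have : Finite E := Nat.finite_of_card_ne_zero (by rw [hE]; exact pow_ne_zero _ two_ne_zero)
  have : Finite S := Finite.of_injective _ (Subgroup.inclusion_injective hSE)
  have hpinv : ∀ g ∈ Subgroup.zpowers a, ∀ x ∈ S, g • x ∈ S := by
    intro g hg
    obtain ⟨i, rfl⟩ := ((isOfFinOrder_of_finite a).mem_powers_iff_mem_zpowers.mpr hg : g ∈ Submonoid.powers a)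
    intro x hx
    show a ^ i • x ∈ S
    induction i with
    | zero => simpa using hx
    | succ i ih => rw [pow_succ', mul_smul]; exact hinv _ (ih (pow_mem (Subgroup.mem_zpowers a) i))
  letI : MulAction (Subgroup.zpowers a) S :=
    { smul := fun g x => ⟨(g : Y) • (x : W), hpinv g g.2 x x.2⟩
      one_smul := fun x => Subtype.ext (one_smul Y (x : W))
      mul_smul := fun g h x => Subtype.ext (mul_smul (g : Y) (h : Y) (x : W)) }
  have hpg : IsPGroup m (Subgroup.zpowers a) := by
    intro g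
    refine ⟨1, Subtype.ext ?_⟩
    obtain ⟨i, hi⟩ := Subgroup.mem_zpowers_iff.mp g.2
    rw [SubmonoidClass.coe_pow, ← hi, pow_one, ← zpow_natCast, ← zpow_mul, mul_comm, zpow_mul, zpow_natCast, ham,
      one_zpow, Subgroup.coe_one]
  have hone : MulAction.fixedPoints (Subgroup.zpowers a) S = {1} := by
    refine Set.eq_singleton_iff_unique_mem.mpr ⟨fun g => Subtype.ext (smul_one (g : Y)), fun x hx => ?_⟩
    exact Subtype.ext (hfpf x (hSE x.2) (congrArg Subtype.val (hx ⟨a, Subgroup.mem_zpowers a⟩)))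
  have hmod := hpg.card_modEq_card_fixedPoints S
  rw [hone, Nat.card_eq_fintype_card (α := ({1} : Set S)), Set.card_singleton] at hmod
  obtain ⟨j, hj, hjc⟩ := (Nat.dvd_prime_pow Nat.prime_two).mp (hE ▸ Subgroup.card_dvd_of_le hSE)
  rw [hjc] at hmod
  refine Subgroup.eq_of_le_of_card_ge hSE ?_
  rw [hE, hjc]
  refine Nat.pow_le_pow_right (by norm_num) ?_
  have hj0 : j ≠ 0 := fun h => hS (Subgroup.card_eq_one.mp (by rw [hjc, h, pow_zero]))
  have hdvd : m ∣ 2 ^ j - 1 := (Nat.modEq_iff_dvd' Nat.one_le_two_pow).mp hmod.symm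
  by_contra hlt
  push Not at hlt
  have h2j : 2 ≤ 2 ^ j := le_self_pow₀ one_le_two hj0 |>.trans' le_rfl
  rcases Nat.lt_or_ge n j with hnj | hnj
  · obtain ⟨i, rfl⟩ : ∃ i, j = n + i := ⟨j - n, by omega⟩
    have hpi : 2 ^ i * 2 ≤ 2 ^ n := by rw [← pow_succ]; exact Nat.pow_le_pow_right (by norm_num) (by omega)
    have h1 : m ∣ 2 ^ i + 1 := by
      have h2 : (m : ℤ) ∣ (2 : ℤ) ^ (n + i) - 1 := by
        have := Int.natCast_dvd_natCast.mpr hdvd
        rwa [Nat.cast_sub Nat.one_le_two_pow, Nat.cast_pow, Nat.cast_one, Nat.cast_ofNat] at this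
      have h3 : (m : ℤ) ∣ ((2 ^ i + 1 : ℕ) : ℤ) := by
        have e : ((2 ^ i + 1 : ℕ) : ℤ) = (2 : ℤ) ^ i * (m : ℤ) - ((2 : ℤ) ^ (n + i) - 1) := by
          rw [hmn]; push_cast; ring
        rw [e]
        exact dvd_sub (dvd_mul_left _ _) h2
      exact Int.natCast_dvd_natCast.mp h3
    have hi1 : 1 ≤ 2 ^ i := Nat.one_le_two_pow
    have := Nat.le_of_dvd (by omega) h1
    omega
  · have := Nat.le_of_dvd (by omega) hdvd
    have := Nat.pow_le_pow_right (show 0 < 2 by norm_num) hnj
    omega

/-- An element commuting with the operator and preserving the form is trivial. -/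
theorem smul_eq_self_of_commute {n : ℕ} {m : ℕ} [Fact m.Prime] (hmn : m = 2 ^ n + 1) {a : Y} (ham : a ^ m = 1)
    (hexp : ∀ w : W, w ^ 2 = 1) {E : Subgroup W} (hE : Nat.card E = 2 ^ (2 * n))
    (haE : ∀ x ∈ E, a • x ∈ E) (hfpf : ∀ x ∈ E, a • x = x → x = 1)
    {Z : Type*} [CommGroup Z] (β : W → W → Z) (hl : ∀ x y z, β (x * y) z = β x z * β y z)
    (hr : ∀ x y z, β x (y * z) = β x y * β x z)
    (hβa : ∀ x y, β (a • x) (a • y) = β x y)
    (hnd : ∀ x ∈ E, (∀ y ∈ E, β x y = 1) → x = 1)
    {c : Y} (hca : c * a = a * c) (hcE : ∀ x ∈ E, c • x ∈ E) (hβc : ∀ x y, β (c • x) (c • y) = β x y)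
    {k : ℕ} (hck : c ^ k = 1) (hkm : k.Coprime m) : ∀ x ∈ E, c • x = x := by
  classical
  by_cases hbot : E = ⊥
  · intro x hx
    rw [hbot, Subgroup.mem_bot] at hx
    rw [hx, smul_one]
  obtain ⟨e, he, he1⟩ := (Subgroup.bot_or_exists_ne_one E).resolve_left hbot
  have hapow : ∀ i : ℕ, ∀ x ∈ E, a ^ i • x ∈ E := by
    intro i
    induction i with
    | zero => intro x hx; simpa using hx
    | succ i ih => intro x hx; rw [pow_succ', mul_smul]; exact haE _ (ih x hx)
  -- the orbit of `e` generates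
  set O : Set W := Set.range fun i : ℕ => a ^ i • e with hO
  have hgen : Subgroup.closure O = E := by
    refine eq_of_invariant hmn ham hE ((Subgroup.closure_le E).mpr (by rintro _ ⟨i, rfl⟩; exact hapow i e he)) ?_ ?_ hfpf
    · intro h
      have : e ∈ Subgroup.closure O := Subgroup.subset_closure ⟨0, by simp⟩
      rw [h, Subgroup.mem_bot] at this
      exact he1 this
    · intro x hx
      induction hx using Subgroup.closure_induction with
      | mem y hy =>
        obtain ⟨i, rfl⟩ := hy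
        exact Subgroup.subset_closure ⟨i + 1, by simp only [pow_succ', mul_smul]⟩
      | one => rw [smul_one]; exact Subgroup.one_mem _
      | mul y z _ _ hy hz => rw [smul_mul']; exact Subgroup.mul_mem _ hy hz
      | inv y _ hy => rw [smul_inv']; exact Subgroup.inv_mem _ hy
  -- `c` is a sum of powers of `a`
  obtain ⟨L, hL⟩ : ∃ L : List ℕ, c • e = (L.map fun i => a ^ i • e).prod := by
    have hce : c • e ∈ Subgroup.closure O := hgen.symm ▸ hcE e he
    have key : ∀ y ∈ Subgroup.closure O, ∃ L : List ℕ, y = (L.map fun i => a ^ i • e).prod := by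
      intro y hy
      induction hy using Subgroup.closure_induction with
      | mem y hy => obtain ⟨i, rfl⟩ := hy; exact ⟨[i], by simp⟩
      | one => exact ⟨[], by simp⟩
      | mul y z _ _ hy hz =>
        obtain ⟨L₁, rfl⟩ := hy
        obtain ⟨L₂, rfl⟩ := hz
        exact ⟨L₁ ++ L₂, by simp⟩
      | inv y _ hy =>
        obtain ⟨L, rfl⟩ := hy
        exact ⟨L, inv_eq_of_mul_eq_one_right (by rw [← sq]; exact hexp _)⟩
    exact key _ hce
  let P : ℕ → W → W := fun t x => ∏ i : Fin L.length, a ^ (t * L[i]) • x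
  have hPmem : ∀ t, ∀ x ∈ E, P t x ∈ E := fun t x hx => Subgroup.prod_mem _ fun i _ => hapow _ x hx
  have hPmul : ∀ t x y, P t (x * y) = P t x * P t y := fun t x y => by
    simp only [P, smul_mul', Finset.prod_mul_distrib]
  have hca' : ∀ (i : ℕ) (x : W), c • a ^ i • x = a ^ i • c • x := fun i x => by
    rw [smul_smul, smul_smul, (show Commute c a from hca).pow_right i]
  have hcP : ∀ x ∈ E, c • x = P 1 x := by
    intro x hx
    rw [← hgen] at hx
    induction hx using Subgroup.closure_induction with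
    | mem y hy =>
      obtain ⟨j, rfl⟩ := hy
      simp only [P, one_mul]
      rw [hca', hL, ← Fin.prod_univ_getElem, Finset.smul_prod']
      refine Fintype.prod_equiv (finCongr (List.length_map _)) _ _ fun i => ?_
      simp only [List.getElem_map, smul_smul, ← pow_add, finCongr_apply]
      congr 2
      exact add_comm _ _
    | one => simp [P]
    | mul y z _ _ hy hz => rw [smul_mul', hPmul, hy, hz]
    | inv y _ hy =>
      rw [smul_inv', hy]
      simp only [P, smul_inv', Finset.prod_inv_distrib]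
  have hck2 : ∀ s : ℕ, ∀ x ∈ E, c ^ (2 ^ s) • x = P (2 ^ s) x := by
    intro s
    induction s with
    | zero => intro x hx; rw [pow_zero, pow_one]; exact hcP x hx
    | succ s ih =>
      intro x hx
      rw [pow_succ 2 s, pow_mul, sq, mul_smul, ih x hx, ih _ (hPmem _ x hx)]
      simp only [P]
      rw [powSum_sq a hexp (fun i : Fin L.length => 2 ^ s * L[i]) x]
      refine Finset.prod_congr rfl fun i _ => ?_
      congr 2
      ring
  have hβone : ∀ y, β 1 y = 1 := fun y => by
    have h := hl 1 1 y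
    rw [one_mul] at h
    exact left_eq_mul.mp h
  have hβone' : ∀ y, β y 1 = 1 := fun y => by
    have h := hr y 1 1
    rw [one_mul] at h
    exact left_eq_mul.mp h
  have hβapow : ∀ (i : ℕ) x y, β (a ^ i • x) (a ^ i • y) = β x y := by
    intro i
    induction i with
    | zero => intro x y; simp
    | succ i ih => intro x y; rw [pow_succ', mul_smul, mul_smul, hβa, ih]
  have hadj : ∀ x y, β (P (2 ^ n) x) y = β x (P 1 y) := by
    intro x y
    let fl : W →* Z := MonoidHom.mk' (fun u => β u y) fun u v => hl u v y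
    let fr : W →* Z := MonoidHom.mk' (fun u => β x u) fun u v => hr x u v
    show fl (P (2 ^ n) x) = fr (P 1 y)
    simp only [P, map_prod, one_mul]
    refine Finset.prod_congr rfl fun i _ => ?_
    show β (a ^ (2 ^ n * L[i]) • x) y = β x (a ^ L[i] • y)
    rw [← hβapow L[i] (a ^ (2 ^ n * L[i]) • x) y, smul_smul, ← pow_add,
      show L[i] + 2 ^ n * L[i] = m * L[i] by rw [hmn]; ring, pow_mul, ham, one_pow, one_smul]
  have hfix : ∀ x ∈ E, c ^ m • x = x := by
    intro x hx
    have hcpow : ∀ i : ℕ, ∀ z ∈ E, c ^ i • z ∈ E := by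
      intro i
      induction i with
      | zero => intro z hz; simpa using hz
      | succ i ih => intro z hz; rw [pow_succ', mul_smul]; exact hcE _ (ih z hz)
    have hmem : c ^ m • x * x ∈ E := E.mul_mem (hcpow m x hx) hx
    have h1 := hnd _ hmem fun y hy => by
      rw [hl, hmn, pow_succ, mul_smul, hck2 n _ (hcE x hx), hadj, ← hcP y hy, hβc]
      have h2 := hl x x y
      rw [← sq x, hexp, hβone] at h2
      exact h2.symm
    rw [mul_eq_one_iff_eq_inv.mp h1]
    exact inv_eq_of_mul_eq_one_right (by rw [← sq]; exact hexp x)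
  intro x hx
  have h1 : c ∈ Subgroup.zpowers (c ^ m) :=
    mem_zpowers_pow_iff.mpr (Nat.Coprime.coprime_dvd_right (orderOf_dvd_of_pow_eq_one hck) hkm.symm)
  exact (Subgroup.zpowers_le.mpr (show c ^ m ∈ MulAction.stabilizer Y x from hfix x hx)) h1

/-- Freeness: under a fixed point free abelian group the fixed points of the operator have index
a power. -/
theorem card_free {S : Subgroup Y} {a : Y} {m : ℕ} (hm : m.Prime) (ham : a ^ m = 1)
    (haS : a ∈ Subgroup.normalizer (S : Set Y))
    (hfpf : ∀ i, 0 < i → i < m → ∀ s ∈ S, (∀ w : W, s • a ^ i • w = a ^ i • s • w) → ∀ w : W, s • w = w)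
    [Finite W] (W₁ : Subgroup W) (hSW : ∀ s ∈ S, ∀ w ∈ W₁, s • w ∈ W₁) (haW : ∀ w ∈ W₁, a • w ∈ W₁)
    (hfix : ∀ w ∈ W₁, (∀ s ∈ S, s • w = w) → w = 1)
    (hane : ∃ w : W, a • w ≠ w)
    (hcop : (Nat.card W).Coprime (Nat.card S * m)) (hsol : Group.IsSolvable S) :
    ∃ C : Subgroup W, (∀ w, w ∈ C ↔ w ∈ W₁ ∧ a • w = w) ∧ Nat.card W₁ = Nat.card C ^ m := by
  classical
  let ψ : Y →* MulAut W := MulDistribMulAction.toMulAut Y W
  let M := W ⋊[MonoidHom.id (MulAut W)] MulAut W
  haveI : Finite (MulAut W) := inferInstance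
  haveI : Finite M := Finite.of_equiv _ SemidirectProduct.equivProd.symm
  let ι : W →* M := SemidirectProduct.inl
  let j : Y →* M := SemidirectProduct.inr.comp ψ
  have hιi : Function.Injective ι := SemidirectProduct.inl_injective
  have hjinj : ∀ y y' : Y, j y = j y' ↔ ∀ w : W, y • w = y' • w := fun y y' => by
    refine ⟨fun h w => ?_, fun h => congrArg SemidirectProduct.inr (MulEquiv.ext h)⟩
    exact DFunLike.congr_fun (SemidirectProduct.inr_injective h) w
  have hjc : ∀ (y : Y) (w : W), j y * ι w * (j y)⁻¹ = ι (y • w) := fun y w => by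
    show SemidirectProduct.inr (ψ y) * ι w * (SemidirectProduct.inr (ψ y))⁻¹ = _
    rw [← map_inv]
    exact (SemidirectProduct.inl_aut (φ := MonoidHom.id (MulAut W)) (ψ y) w).symm
  set U := S.map j
  set E := Subgroup.zpowers (j a)
  set H := W₁.map ι
  have haj : (j a) ^ m = 1 := by rw [← map_pow, ham, map_one]
  have hEcard : Nat.card E = m := by
    rw [Nat.card_zpowers]
    haveI := Fact.mk hm
    refine orderOf_eq_prime haj fun h => ?_
    obtain ⟨w, hw⟩ := hane
    rw [← map_one j] at h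
    exact hw (by simpa using (hjinj a 1).mp h w)
  have hEU : E ≤ Subgroup.normalizer (U : Set M) := by
    rw [Subgroup.zpowers_le]
    exact Subgroup.le_normalizer_map j (Subgroup.mem_map_of_mem j haS)
  have hH : U ⊔ E ≤ Subgroup.normalizer (H : Set M) := by
    have key : ∀ y : Y, (∀ w ∈ W₁, y • w ∈ W₁) → j y ∈ Subgroup.normalizer (H : Set M) := fun y hy =>
      Subgroup.mem_normalizer_fintype (by rintro _ ⟨w, hw, rfl⟩; exact ⟨y • w, hy w hw, (hjc y w).symm⟩)
    exact sup_le (by rintro _ ⟨s, hs, rfl⟩; exact key s (hSW s hs)) (Subgroup.zpowers_le.mpr (key a haW))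
  have hfp : ∀ e ∈ E, e ≠ 1 → ∀ u ∈ U, e * u = u * e → u = 1 := by
    rintro e he he1 _ ⟨s, hs, rfl⟩ heq
    obtain ⟨i, rfl⟩ := ((isOfFinOrder_of_finite (j a)).mem_powers_iff_mem_zpowers.mpr he : e ∈ Submonoid.powers (j a))
    have hi : (j a) ^ i = (j a) ^ (i % m) := by
      conv_lhs => rw [← Nat.mod_add_div i m, pow_add, pow_mul, haj, one_pow, mul_one]
    change (j a) ^ i ≠ 1 at he1
    change (j a) ^ i * j s = j s * (j a) ^ i at heq
    rw [hi] at he1 heq
    rw [← map_pow, ← map_mul, ← map_mul, hjinj] at heq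
    rw [← map_one j, hjinj]
    intro w
    rw [one_smul]
    refine hfpf (i % m) (Nat.pos_of_ne_zero fun h => he1 (by rw [h, pow_zero])) (Nat.mod_lt _ hm.pos) s hs
      (fun w => ?_) w
    rw [smul_smul, smul_smul]
    exact (heq w).symm
  have hUsol : Group.IsSolvable U := isSolvable_map hsol j
  have hHsol : Group.IsSolvable H := by
    haveI : IsMulCommutative H := ⟨⟨by rintro ⟨_, w, hw, rfl⟩ ⟨_, w', hw', rfl⟩; exact Subtype.ext (by
      show ι w * ι w' = ι w' * ι w
      rw [← map_mul, mul_comm, map_mul])⟩⟩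
    exact Group.isSolvable_of_comm mul_comm'
  have hHc : Nat.card H = Nat.card W₁ := Subgroup.card_map_of_injective hιi
  have hcopH : (Nat.card H).Coprime (Nat.card ↥(U ⊔ E)) := by
    refine Nat.Coprime.coprime_dvd_right ?_ (hcop.coprime_dvd_left (hHc ▸ W₁.card_subgroup_dvd_card))
    rw [sup_comm]
    refine (card_sup_dvd_mul (H := E) (N := U) hEU).trans ?_
    rw [hEcard, mul_comm]
    exact mul_dvd_mul_right (Subgroup.card_map_dvd S j) _
  have hC : H ⊓ Subgroup.centralizer (U : Set M) = ⊥ := by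
    refine (Subgroup.eq_bot_iff_forall _).mpr ?_
    rintro _ ⟨⟨w, hw, rfl⟩, hc⟩
    rw [hfix w hw fun s hs => hιi ?_, map_one]
    rw [← hjc, Subgroup.mem_centralizer_iff.mp hc (j s) (Subgroup.mem_map_of_mem j hs), mul_inv_cancel_right]
  have h := Cfsg.Agent.Transfer.FrobFix.card_eq_fixed_pow U E H hH hEU hfp hUsol hHsol hcopH hC
  rw [hEcard, hHc] at h
  let C : Subgroup W := W₁ ⊓ (Subgroup.centralizer (E : Set M)).comap ι
  refine ⟨C, fun w => ?_, ?_⟩
  · refine and_congr Iff.rfl ⟨fun hc => hιi ?_, fun he => ?_⟩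
    · rw [← hjc, Subgroup.mem_centralizer_iff.mp hc (j a) (Subgroup.mem_zpowers _), mul_inv_cancel_right]
    · show ι w ∈ Subgroup.centralizer (E : Set M)
      rw [← centralizer_singleton_eq_zpowers, Subgroup.mem_centralizer_singleton_iff]
      have h1 := hjc a w
      rw [he] at h1
      exact (mul_inv_eq_iff_eq_mul.mp h1).symm
  · have e : C.map ι = H ⊓ Subgroup.centralizer (E : Set M) := by
      rw [Subgroup.map_inf _ _ ι hιi, Subgroup.map_comap_eq, ← inf_assoc,
        inf_of_le_left (Subgroup.map_le_range ι W₁)]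
    rw [h, ← e, Subgroup.card_map_of_injective hιi]

end Cfsg.Agent.Grp.PQ
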