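import Mathlib
import Cfsg.Agent.Lib.Grp.PQ.Transitive
import Cfsg.Agent.Lib.Grp.PQ.Symplectic
import Cfsg.Agent.Lib.Grp.HallHigmanGroup
import Cfsg.Agent.Lib.Grp.ExtraspecialFixed
import Cfsg.Agent.Lib.Grp.SameOrderConj

/-!
A group of class two with an operator of prime order without fixed points on a module and a coprime
group acting without fixed points on the central quotient: the operator centralizes the group.
-/

set_option autoImplicit false
set_option linter.unusedSectionVars false
set_option linter.style.haveILetI false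
set_option maxHeartbeats 800000

namespace Cfsg.Agent.Grp.PQ

open scoped Pointwise commutatorElement

variable {X : Type*} [Group X] [Finite X]

/-- The centre is centralized. -/
theorem center_fixed (V Q : Subgroup X) [V.Normal] [IsMulCommutative V] (a : X) {m : ℕ} (hm : m.Prime)
    (hord : orderOf a = m) (haQ : a ∈ Subgroup.normalizer (Q : Set X))
    (hcop : (Nat.card Q).Coprime (Nat.card V)) (hcopm : m.Coprime (Nat.card Q))
    (hfaith : Q ⊓ Subgroup.centralizer (V : Set X) = ⊥) (hfix : V ⊓ Subgroup.centralizer ({a} : Set X) = ⊥) :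
    Q ⊓ Subgroup.centralizer (Q : Set X) ≤ Subgroup.centralizer ({a} : Set X) := by
  classical
  letI : CommGroup V := { (inferInstance : Group V) with mul_comm := fun u v => IsMulCommutative.is_comm.comm u v }
  letI : MulDistribMulAction X V := MulDistribMulAction.compHom V (MulAut.conjNormal : X →* MulAut V)
  have hsm : ∀ (g : X) (v : V), ((g • v : V) : X) = g * v * g⁻¹ := fun g v => MulAut.conjNormal_apply g v
  set P := Q ⊓ Subgroup.centralizer (Q : Set X) with hP
  set A1 := Subgroup.zpowers a with hA1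
  have hA1P : A1 ≤ Subgroup.normalizer (P : Set X) := by
    rw [hA1, Subgroup.zpowers_le]
    refine Subgroup.mem_normalizer_fintype fun x hx => ⟨mem_conj_normalizer haQ hx.1, ?_⟩
    refine Subgroup.mem_centralizer_iff.mpr fun q hq => ?_
    have h := Subgroup.mem_centralizer_iff.mp hx.2 _ (mem_conj_normalizer' haQ hq)
    calc q * (a * x * a⁻¹) = a * ((a⁻¹ * q * a) * x) * a⁻¹ := by group
      _ = a * (x * (a⁻¹ * q * a)) * a⁻¹ := by rw [h]
      _ = _ := by group
  haveI : IsMulCommutative P := ⟨⟨fun x y => Subtype.ext (Subgroup.mem_centralizer_iff.mp y.2.2 x x.2.1)⟩⟩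
  have hc1 : (Nat.card A1).Coprime (Nat.card P) := by
    rw [hA1, Nat.card_zpowers, hord]
    exact hcopm.coprime_dvd_right (Subgroup.card_dvd_of_le inf_le_left)
  have hinf := abelian_commutator_inf_fixed A1 P hA1P hc1
  set T := ⁅P, A1⁆ with hT
  have hTP : T ≤ P := commutator_le_left_of_le_normalizer hA1P
  have htriv : T ≤ Subgroup.centralizer (V : Set X) := by
    have hcopT : (Nat.card T).Coprime (Nat.card V) :=
      hcop.coprime_dvd_left (Subgroup.card_dvd_of_le (hTP.trans inf_le_left))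
    have haT : a ∈ Subgroup.normalizer (T : Set X) := right_le_normalizer_commutator A1 P (Subgroup.mem_zpowers a)
    have hkill : ∀ z : V, avg T z = 1 → z = 1 := by
      intro z hz
      refine twist (T := T) (S := ⊥) (x := a) hm.pos (hord ▸ pow_orderOf_eq_one a) haT
        (by rw [Subgroup.normalizer_eq_top]; exact Subgroup.mem_top _) (by rw [Subgroup.normalizer_eq_top]; exact le_top)
        ?_ hcopT (fun w : V => avg T w = 1) (fun u v hu hv => by rw [map_mul, hu, hv, one_mul]) (map_one _)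
        (fun w hw => by rw [avg_smul haT, hw, smul_one]) (fun t ht w hw => by rw [avg_smul_self ht]; exact hw)
        (fun w _ s hs => by rw [Subgroup.mem_bot.mp hs, one_smul]) (fun w hw => hw) ?_ hz
      · intro i hi him t ht htx
        rw [Subgroup.mem_bot, mul_inv_eq_one, mul_inv_eq_iff_eq_mul] at htx
        have hai : Subgroup.zpowers (a ^ i) = A1 := by
          refine le_antisymm (Subgroup.zpowers_le.mpr (pow_mem (Subgroup.mem_zpowers a) i)) ?_
          refine Subgroup.zpowers_le.mpr (mem_zpowers_pow_iff.mpr ?_)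
          rw [hord]
          exact (hm.coprime_iff_not_dvd.mpr (Nat.not_dvd_of_pos_of_lt hi him)).symm
        have hc : t ∈ P ⊓ Subgroup.centralizer (A1 : Set X) := by
          refine ⟨hTP ht, ?_⟩
          rw [← hai]
          show t ∈ Subgroup.centralizer (Subgroup.zpowers (a ^ i) : Set X)
          rw [← Grp.centralizer_singleton_eq_zpowers, Subgroup.mem_centralizer_singleton_iff]
          exact htx
        have h : t ∈ (P ⊓ Subgroup.centralizer (A1 : Set X)) ⊓ T := ⟨hc, ht⟩
        rw [hT, hinf] at h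
        exact h
      · intro w _ hw
        have h : (w : X) ∈ V ⊓ Subgroup.centralizer ({a} : Set X) := ⟨w.2, by
          refine Subgroup.mem_centralizer_singleton_iff.mpr ?_
          have := congrArg Subtype.val hw
          rw [hsm] at this
          exact (mul_inv_eq_iff_eq_mul.mp this).symm⟩
        rw [hfix, Subgroup.mem_bot] at h
        exact Subtype.ext h
    intro t ht
    rw [Subgroup.mem_centralizer_iff]
    intro v hv
    have h1 := hkill (t • (⟨v, hv⟩ : V) * (⟨v, hv⟩ : V)⁻¹)
      (by rw [map_mul, map_inv, avg_smul_self ht, mul_inv_cancel])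
    rw [mul_inv_eq_one] at h1
    have h2 := congrArg Subtype.val h1
    rw [hsm] at h2
    exact (mul_inv_eq_iff_eq_mul.mp h2).symm
  have hTbot : T = ⊥ := le_bot_iff.mp (hfaith ▸ le_inf (hTP.trans inf_le_left) htriv)
  intro x hx
  rw [Grp.centralizer_singleton_eq_zpowers]
  exact (Subgroup.commutator_eq_bot_iff_le_centralizer.mp hTbot) hx

/-- The size of the moved part of the central quotient. -/
theorem moved_card {ℓ s m : ℕ} [Fact ℓ.Prime] [Fact s.Prime] [Fact m.Prime] (V Q Z0 : Subgroup X) (a : X)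
    (hV : Cfsg.IsElementaryAbelian ℓ V) (hℓs : ℓ ≠ s) (hℓm : ℓ ≠ m) (hms : m ≠ s) (hord : orderOf a = m)
    (haV : a ∈ Subgroup.normalizer (V : Set X)) (hQV : Q ≤ Subgroup.normalizer (V : Set X))
    (haQ : a ∈ Subgroup.normalizer (Q : Set X)) (hQ : IsPGroup s Q)
    (hfaith : Q ⊓ Subgroup.centralizer (V : Set X) = ⊥) (hfix : V ⊓ Subgroup.centralizer ({a} : Set X) = ⊥)
    (hZQ : Z0 ≤ Q) (hZc : ∀ z ∈ Z0, ∀ g ∈ Q, g * z = z * g) (hZcard : Nat.card Z0 = s)
    (haZ : ∀ z ∈ Z0, a * z = z * a) (hder : ∀ g ∈ Q, ∀ t ∈ Q, ⁅t, g⁆ ∈ Z0)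
    (hP : Q ⊓ Subgroup.centralizer (Q : Set X) ≤ Subgroup.centralizer ({a} : Set X))
    (hne : ∃ x ∈ Q, a * x ≠ x * a) :
    s = 2 ∧ ∃ n : ℕ, m = 2 ^ n + 1 ∧
      (Q ⊓ Subgroup.centralizer (Q : Set X)).relIndex (⁅Q, Subgroup.zpowers a⁆ ⊔ Z0) = 2 ^ (2 * n) := by
  classical
  set A1 := Subgroup.zpowers a with hA1
  have hA1Q : A1 ≤ Subgroup.normalizer (Q : Set X) := Subgroup.zpowers_le.mpr haQ
  obtain ⟨k, hk⟩ := hQ.exists_card_eq
  have hmQ : m.Coprime (Nat.card Q) := by
    rw [hk]; exact ((Nat.coprime_primes Fact.out Fact.out).mpr hms).pow_right k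
  have hcopA : (Nat.card A1).Coprime (Nat.card Q) := by rwa [hA1, Nat.card_zpowers, hord]
  haveI : IsMulCommutative A1 := by rw [hA1]; infer_instance
  have hsA : Group.IsSolvable A1 := Group.isSolvable_of_comm mul_comm'
  set K := ⁅Q, A1⁆ with hK
  have hKQ : K ≤ Q := commutator_le_left_of_le_normalizer hA1Q
  set Q1 := K ⊔ Z0 with hQ1
  have hQ1Q : Q1 ≤ Q := sup_le hKQ hZQ
  have hcen : Subgroup.centralizer ({a} : Set X) = Subgroup.centralizer (A1 : Set X) := Grp.centralizer_singleton_eq_zpowers a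
  -- fixed elements centralize the commutator
  have hCK : ∀ c ∈ Q, a * c = c * a → ∀ y ∈ K, c * y = y * c := by
    intro c hc hca
    have hle : K ≤ Subgroup.centralizer ({c} : Set X) := by
      rw [hK, Subgroup.commutator_le]
      intro q hq b hb
      rw [Subgroup.mem_centralizer_singleton_iff]
      have hcb : b * c = c * b := by
        have : c ∈ Subgroup.centralizer (A1 : Set X) := hcen ▸ Subgroup.mem_centralizer_singleton_iff.mpr hca.symm
        exact Subgroup.mem_centralizer_iff.mp this b hb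
      have hw := hder q hq c hc
      have hwb : b * ⁅c, q⁆ = ⁅c, q⁆ * b := by
        have : ⁅c, q⁆ ∈ Subgroup.centralizer (A1 : Set X) := hcen ▸ Subgroup.mem_centralizer_singleton_iff.mpr (haZ _ hw).symm
        exact Subgroup.mem_centralizer_iff.mp this b hb
      have e1 : c * ⁅q, b⁆ * c⁻¹ = ⁅c * q * c⁻¹, b⁆ := by
        rw [show c * ⁅q, b⁆ * c⁻¹ = ⁅c * q * c⁻¹, c * b * c⁻¹⁆ by simp only [commutatorElement_def]; group,
          show c * b * c⁻¹ = b by rw [← hcb, mul_inv_cancel_right]]
      have e2 : ⁅c * q * c⁻¹, b⁆ = ⁅q, b⁆ := by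
        rw [show c * q * c⁻¹ = ⁅c, q⁆ * q by simp only [commutatorElement_def]; group]
        rw [show ⁅⁅c, q⁆ * q, b⁆ = ⁅c, q⁆ * ⁅q, b⁆ * ⁅c, q⁆⁻¹ * ⁅⁅c, q⁆, b⁆ by
          simp only [commutatorElement_def]; group]
        have hqb : ⁅q, b⁆ ∈ Q := hKQ (Subgroup.commutator_mem_commutator hq hb)
        rw [commutatorElement_eq_one_iff_mul_comm.mpr hwb.symm, mul_one, ← hZc _ hw _ hqb, mul_inv_cancel_right]
      rw [e2] at e1
      exact (mul_inv_eq_iff_eq_mul.mp e1).symm
    intro y hy
    exact (Subgroup.mem_centralizer_singleton_iff.mp (hle hy)).symm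
  set C1 := Q1 ⊓ Subgroup.centralizer ({a} : Set X) with hC1
  have hC1P : C1 ≤ Q ⊓ Subgroup.centralizer (Q : Set X) := by
    rintro c ⟨hc, hca⟩
    refine ⟨hQ1Q hc, Subgroup.mem_centralizer_iff.mpr fun q hq => ?_⟩
    obtain ⟨y, hy, d, hd, rfl⟩ := exists_commutator_mul_fixed A1 Q hA1Q hcopA (Or.inl hsA) hq
    have hca' := (Subgroup.mem_centralizer_singleton_iff.mp hca).symm
    have h1 : c * y = y * c := hCK c (hQ1Q hc) hca' y hy
    have hd' : a * d = d * a := (Subgroup.mem_centralizer_singleton_iff.mp (hcen.symm ▸ hd.2)).symm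
    have h2 : Q1 ≤ Subgroup.centralizer ({d} : Set X) := sup_le
      (fun z hz => Subgroup.mem_centralizer_singleton_iff.mpr (hCK d hd.1 hd' z hz).symm)
      (fun z hz => Subgroup.mem_centralizer_singleton_iff.mpr (hZc z hz d hd.1).symm)
    have h3 : c * d = d * c := Subgroup.mem_centralizer_singleton_iff.mp (h2 hc)
    rw [mul_assoc, ← h3, ← mul_assoc, ← h1, mul_assoc]
  have hlt : C1 < Q1 := by
    refine lt_of_le_not_ge inf_le_left fun h => ?_
    obtain ⟨x, hx, hxa⟩ := hne
    refine hxa ?_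
    have h1 : ⁅K, A1⁆ = ⊥ :=
      Subgroup.commutator_eq_bot_iff_le_centralizer.mpr (hcen ▸ (le_sup_left.trans h).trans inf_le_right)
    rw [hK, commutator_commutator_eq A1 Q hA1Q hcopA (Or.inl hsA),
      Subgroup.commutator_eq_bot_iff_le_centralizer] at h1
    exact Subgroup.mem_centralizer_iff.mp (h1 hx) a (Subgroup.mem_zpowers a)
  have hZC : Z0 ≤ C1 := le_inf le_sup_right fun z hz => Subgroup.mem_centralizer_singleton_iff.mpr (haZ z hz).symm
  obtain ⟨z, hz, hzo⟩ := exists_prime_order_mem (H := Z0) fun h => by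
    rw [h, Subgroup.card_bot] at hZcard
    exact (Fact.out : s.Prime).one_lt.ne hZcard
  have hpowZ : ∀ w ∈ Z0, w ^ s = 1 := fun w hw => by
    have := congrArg Subtype.val (pow_card_eq_one' (x := (⟨w, hw⟩ : Z0)))
    rwa [Subgroup.coe_pow, hZcard] at this
  have hzV : ∃ v ∈ V, z * v ≠ v * z := by
    by_contra h
    push Not at h
    have : z ∈ Q ⊓ Subgroup.centralizer (V : Set X) := ⟨hZQ hz, Subgroup.mem_centralizer_iff.mpr fun v hv => (h v hv).symm⟩
    rw [hfaith, Subgroup.mem_bot] at this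
    rw [this, orderOf_one] at hzo
    exact Nat.not_prime_one hzo
  have hmp : ¬ ℓ ∣ m := fun h => hℓm ((Nat.prime_dvd_prime_iff_eq Fact.out Fact.out).mp h)
  have hxZ : ∀ w ∈ C1, a * w = w * a := fun w hw => (Subgroup.mem_centralizer_singleton_iff.mp hw.2).symm
  have hZc' : ∀ w ∈ C1, ∀ g ∈ Q1, g * w = w * g := fun w hw g hg =>
    Subgroup.mem_centralizer_iff.mp (hC1P hw).2 g (hQ1Q hg)
  have hQ1a : a ∈ Subgroup.normalizer (Q1 : Set X) := by
    refine (Subgroup.zpowers_le.mp ?_)
    intro b hb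
    refine Subgroup.mem_normalizer_fintype fun y hy => ?_
    have hle : Q1 ≤ Q1.comap (MulAut.conj b).toMonoidHom := sup_le
      (fun y hy => Subgroup.mem_sup_left (mem_conj_normalizer (right_le_normalizer_commutator A1 Q hb) hy))
      (fun y hy => Subgroup.mem_sup_right (by
        show b * y * b⁻¹ ∈ Z0
        have : y ∈ Subgroup.centralizer (A1 : Set X) := hcen ▸ Subgroup.mem_centralizer_singleton_iff.mpr (haZ _ hy).symm
        rw [Subgroup.mem_centralizer_iff.mp this b hb, mul_inv_cancel_right]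
        exact hy))
    exact hle hy
  obtain ⟨d, hd, -, hd3⟩ := hallHigman_central (p := ℓ) (q := s) hℓs (Fact.out : m.Prime).two_le hmp V Q1 C1 a hV
    (hQ1Q.trans hQV) haV hQ1a (hord ▸ pow_orderOf_eq_one a) hxZ inf_le_left hZc'
    (fun g hg t ht => hZC (hder g (hQ1Q hg) t (hQ1Q ht))) (hZC hz) (hpowZ z hz) hzV
    (fun ω hmul hωz g hg hgC => by
      by_contra hno
      push Not at hno
      have hω1 : ω 1 = 1 := by
        have := hno g hg
        rwa [commutatorElement_self] at this
      refine hgC ⟨hg, ?_⟩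
      refine hP ⟨hQ1Q hg, Subgroup.mem_centralizer_iff.mpr fun q hq => ?_⟩
      obtain ⟨y, hy, c, hc, rfl⟩ := exists_commutator_mul_fixed A1 Q hA1Q hcopA (Or.inl hsA) hq
      have hc' : a * c = c * a := (Subgroup.mem_centralizer_singleton_iff.mp (hcen.symm ▸ hc.2)).symm
      have hgc : c * g = g * c := by
        have h2 : Q1 ≤ Subgroup.centralizer ({c} : Set X) := sup_le
          (fun z hz => Subgroup.mem_centralizer_singleton_iff.mpr (hCK c hc.1 hc' z hz).symm)
          (fun z hz => Subgroup.mem_centralizer_singleton_iff.mpr (hZc z hz c hc.1).symm)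
        exact (Subgroup.mem_centralizer_singleton_iff.mp (h2 hg)).symm
      have hyg : y * g = g * y := by
        by_contra hne'
        have hw : ⁅y, g⁆ ∈ Z0 := hder g (hQ1Q hg) y (hKQ hy)
        have hw1 : ⁅y, g⁆ ≠ 1 := fun h => hne' (commutatorElement_eq_one_iff_mul_comm.mp h)
        have hgen : Subgroup.zpowers ⁅y, g⁆ = Z0 := by
          refine Subgroup.eq_of_le_of_card_ge (Subgroup.zpowers_le.mpr hw) ?_
          rw [hZcard, Nat.card_zpowers, orderOf_eq_prime (hpowZ _ hw) hw1]
        obtain ⟨i, hi⟩ := ((isOfFinOrder_of_finite ⁅y, g⁆).mem_powers_iff_mem_zpowers.mpr (hgen ▸ hz) : z ∈ Submonoid.powers _)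
        refine hωz ?_
        rw [← hi]
        have hwC := hZC hw
        have hk : ∀ k : ℕ, ω (⁅y, g⁆ ^ k) = 1 := by
          intro k
          induction k with
          | zero => rw [pow_zero, hω1]
          | succ k ih =>
            rw [pow_succ, hmul _ (C1.pow_mem hwC k) _ hwC, hno y (Subgroup.mem_sup_left hy), mul_one, ih]
        exact hk i
      rw [mul_assoc, hgc, ← mul_assoc, hyg, mul_assoc])
    (fun i hi him g hg hgz => by
      have h1 := commute_of_fixed_mod (y := a ^ i) (g := g) (h := m)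
        (by rw [← pow_mul, mul_comm, pow_mul, ← hord, pow_orderOf_eq_one, one_pow])
        (fun w hw => ((show Commute a w from hxZ w hw).pow_left i).eq)
        (hmQ.coprime_dvd_right (Subgroup.card_dvd_of_le (inf_le_left.trans hQ1Q))) hgz
      refine ⟨hg, Subgroup.mem_centralizer_singleton_iff.mpr ?_⟩
      have hmem : a ∈ Subgroup.zpowers (a ^ i) := mem_zpowers_pow_iff.mpr (by
        rw [hord]
        exact ((Fact.out : m.Prime).coprime_iff_not_dvd.mpr (Nat.not_dvd_of_pos_of_lt hi him)).symm)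
      obtain ⟨e, he⟩ := Subgroup.mem_zpowers_iff.mp hmem
      rw [← he]
      exact ((show Commute (a ^ i) g from h1).zpow_left e).eq.symm)
  have hdm : d + 1 = m := hd3 hfix hlt
  obtain ⟨j, -, hj⟩ := (Nat.dvd_prime_pow (Fact.out : s.Prime)).mp
    ((Dvd.intro d hd).trans ((hk ▸ (Subgroup.relIndex_dvd_card C1 Q1).trans (Subgroup.card_dvd_of_le hQ1Q))))
  have hd1 : d ≠ 1 := fun h => hlt.not_ge (Subgroup.relIndex_eq_one.mp (by rw [← hd, h]))
  have hs2 : s = 2 := by
    rcases (Fact.out : s.Prime).eq_two_or_odd' with h | h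
    · exact h
    exfalso
    have hm2 : m = 2 := ((Nat.prime_dvd_prime_iff_eq Nat.prime_two Fact.out).mp (by
      rw [← hdm, hj, ← even_iff_two_dvd]; exact (h.pow).add_one)).symm
    exact hd1 (by omega)
  subst hs2
  refine ⟨rfl, j, by rw [← hdm, hj], ?_⟩
  have hPC : Subgroup.relIndex (Q ⊓ Subgroup.centralizer (Q : Set X)) Q1 = C1.relIndex Q1 := by
    rw [← Subgroup.inf_relIndex_right (Q ⊓ Subgroup.centralizer (Q : Set X)) Q1]
    congr 1
    refine le_antisymm (le_inf inf_le_right (inf_le_left.trans hP)) (le_inf hC1P inf_le_left)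
  rw [hPC, ← hd, hj, ← pow_add, two_mul]

end Cfsg.Agent.Grp.PQ
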