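import Mathlib
import Cfsg.Agent.Lib.Grp.PQ.Exception

/-!
A coprime group without fixed points on the central quotient excludes the exceptional operator.
-/

set_option autoImplicit false
set_option linter.unusedSectionVars false
set_option linter.style.haveILetI false
set_option maxHeartbeats 800000

namespace Cfsg.Agent.Grp.PQ

open scoped Pointwise commutatorElement

/-- The form version. -/
theorem moved_trivial {Y : Type*} [Group Y] [Finite Y] {W : Type*} [CommGroup W] [Finite W] [MulDistribMulAction Y W]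
    (hexp : ∀ w : W, w ^ 2 = 1) {T : Subgroup Y} {r : ℕ} [Fact r.Prime] (hr2 : r ≠ 2) (hT : IsPGroup r T)
    {a : Y} {m n : ℕ} [Fact m.Prime] (hmn : m = 2 ^ n + 1) (hm2 : m ≠ 2) (hmr : m ≠ r) (ham : a ^ m = 1)
    (hord : orderOf a = m) (haT : a ∈ Subgroup.normalizer (T : Set Y))
    (hTcomm : ∀ t ∈ T, ∀ t' ∈ T, ∀ w : W, t • t' • w = t' • t • w)
    (hTW : ∀ w : W, avg T w = 1)
    {Z : Type*} [CommGroup Z] (β : W → W → Z) (hl : ∀ x y z, β (x * y) z = β x z * β y z)
    (hr : ∀ x y z, β x (y * z) = β x y * β x z) (hinv : ∀ (g : Y) x y, β (g • x) (g • y) = β x y)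
    (hdiag : ∀ x, β x x = 1) (hsymm : ∀ x y, β x y = 1 → β y x = 1)
    (hZ2 : ∀ x y, β x y ^ 2 = 1) (hnd : ∀ x, (∀ y, β x y = 1) → x = 1)
    {E : Subgroup W} (hEdef : ∀ x, x ∈ E ↔ ∃ w, a • w * w⁻¹ = x) (hE : Nat.card E = 2 ^ (2 * n)) : E = ⊥ := by
  classical
  obtain ⟨kW, hkW⟩ : ∃ k, Nat.card W = 2 ^ k := IsPGroup.exists_card_eq fun w => ⟨1, by simpa using hexp w⟩
  obtain ⟨kT, hkT⟩ := hT.exists_card_eq
  have hcopT : (Nat.card T).Coprime (Nat.card W) := by
    rw [hkW, hkT]; exact (((Nat.coprime_primes Fact.out Nat.prime_two).mpr hr2).pow_left kT).pow_right kW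
  set A1 := Subgroup.zpowers a with hA1
  have hA1c : Nat.card A1 = m := by rw [hA1, Nat.card_zpowers, hord]
  have hcopA : (Nat.card A1).Coprime (Nat.card W) := by
    rw [hA1c, hkW]; exact ((Nat.coprime_primes Fact.out Nat.prime_two).mpr hm2).pow_right kW
  have hsA : Group.IsSolvable A1 := by
    haveI : IsMulCommutative A1 := by rw [hA1]; infer_instance
    exact Group.isSolvable_of_comm mul_comm'
  have hfix : ∀ x ∈ E, a • x = x → x = 1 := by
    intro x hx hax
    obtain ⟨w, rfl⟩ := (hEdef x).mp hx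
    refine eq_one_of_fixed hcopA (fun g hg => ?_) ?_
    · exact (Subgroup.zpowers_le.mpr (show a ∈ MulAction.stabilizer Y (a • w * w⁻¹) from hax)) hg
    · rw [map_mul, map_inv, avg_smul_self (Subgroup.mem_zpowers a), mul_inv_cancel]
  have haE : ∀ x ∈ E, a • x ∈ E := by
    intro x hx
    obtain ⟨w, rfl⟩ := (hEdef x).mp hx
    exact (hEdef _).mpr ⟨a • w, by rw [smul_mul', smul_inv']⟩
  have hgenE : ∀ g ∈ A1, ∀ w : W, g • w * w⁻¹ ∈ E := by
    intro g hg
    exact (Subgroup.zpowers_le.mpr (show a ∈ stabMod E from fun w => (hEdef _).mpr ⟨w, rfl⟩)) hg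
  have hmodd : ∀ w : W, w ^ m = w := fun w => by
    obtain ⟨k, hk⟩ := ((Fact.out : m.Prime).eq_two_or_odd').resolve_left hm2
    rw [hk, pow_succ, pow_mul, hexp, one_pow, one_mul]
  -- decomposition along the operator
  have hdec : ∀ w : W, ∃ e ∈ E, avg A1 w * e = w := by
    intro w
    refine ⟨(avg A1 w)⁻¹ * w, ?_, mul_inv_cancel_left _ _⟩
    have := Fintype.ofFinite A1
    have h : ∏ g : A1, ((g : Y) • w * w⁻¹) ∈ E := Subgroup.prod_mem _ fun g _ => hgenE g g.2 w
    rw [Finset.prod_mul_distrib, ← avg_apply, Finset.prod_const, Finset.card_univ, ← Nat.card_eq_fintype_card,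
      hA1c, hmodd] at h
    have h2 := E.inv_mem h
    rwa [mul_inv_rev, inv_inv, mul_comm] at h2
  have hEnd : ∀ x ∈ E, (∀ y ∈ E, β x y = 1) → x = 1 := by
    intro x hx hy
    refine hnd x fun y => ?_
    obtain ⟨e, he, hye⟩ := hdec y
    -- the fixed part is orthogonal
    have hfe : ∀ f : W, a • f = f → β x f = 1 := by
      intro f hf
      obtain ⟨w, rfl⟩ := (hEdef x).mp hx
      have h1 : β (a • w) f = β w f := by conv_lhs => rw [← hf, hinv]
      rw [hl, h1, ← hl, mul_inv_cancel]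
      have h2 := hl 1 1 f
      rw [one_mul] at h2
      exact left_eq_mul.mp h2
    rw [← hye, hr, hy e he, mul_one]
    exact hfe _ (smul_avg (Subgroup.mem_zpowers a) y)
  have hcE : ∀ c ∈ T, c * a = a * c → ∀ x ∈ E, c • x = x := by
    intro c hc hca
    obtain ⟨i, hi⟩ := hT ⟨c, hc⟩
    refine smul_eq_self_of_commute (m := m) hmn ham hexp hE haE hfix β hl hr (hinv a) hEnd hca ?_ (hinv c)
      (show c ^ r ^ i = 1 from congrArg Subtype.val hi) (((Nat.coprime_primes Fact.out Fact.out).mpr hmr.symm).pow_left i)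
    intro x hx
    obtain ⟨w, rfl⟩ := (hEdef x).mp hx
    exact (hEdef _).mpr ⟨c • w, by rw [smul_mul', smul_inv', smul_smul, smul_smul, hca]⟩
  set S := ⁅T, A1⁆ with hS
  have hA1T : A1 ≤ Subgroup.normalizer (T : Set Y) := Subgroup.zpowers_le.mpr haT
  have hST : S ≤ T := commutator_le_left_of_le_normalizer hA1T
  have hTS : T ≤ Subgroup.normalizer (S : Set Y) := left_le_normalizer_commutator A1 T
  have haS : a ∈ Subgroup.normalizer (S : Set Y) := right_le_normalizer_commutator A1 T (Subgroup.mem_zpowers a)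
  have hcopAT : (Nat.card A1).Coprime (Nat.card T) := by
    rw [hA1c, hkT]; exact ((Nat.coprime_primes Fact.out Fact.out).mpr hmr).pow_right kT
  -- the fixed space of `S` is centralized by the operator
  have hW0 : ∀ w : W, (∀ s ∈ S, s • w = w) → a • w = w := by
    intro w hw
    rw [← mul_inv_eq_one]
    refine eq_one_of_fixed hcopT (fun t ht => ?_) (hTW _)
    obtain ⟨s, hs, c, hc, rfl⟩ := exists_commutator_mul_fixed A1 T hA1T hcopAT (Or.inl hsA) ht
    have hca : c * a = a * c := (Subgroup.mem_centralizer_iff.mp hc.2 a (Subgroup.mem_zpowers a)).symm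
    rw [mul_smul, hcE c hc.1 hca _ ((hEdef _).mpr ⟨w, rfl⟩), smul_mul', smul_inv', hw s hs, smul_smul,
      show s * a = a * (a⁻¹ * s * a) by group, mul_smul, hw _ (mem_conj_normalizer' haS hs)]
  set W1 : Subgroup W := (avg S).ker with hW1
  have hcopS : (Nat.card S).Coprime (Nat.card W) := hcopT.coprime_dvd_left (Subgroup.card_dvd_of_le hST)
  have hSodd : ∀ z : W, z ^ Nat.card S = z := fun z => by
    have hodd : Odd (Nat.card S) := by
      rw [← Nat.not_even_iff_odd, even_iff_two_dvd]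
      intro h
      refine hr2 ((Nat.prime_dvd_prime_iff_eq Nat.prime_two Fact.out).mp (Nat.prime_two.dvd_of_dvd_pow (n := kT) ?_)).symm
      exact hkT ▸ h.trans (Subgroup.card_dvd_of_le hST)
    obtain ⟨k, hk⟩ := hodd
    rw [hk, pow_succ, pow_mul, hexp, one_pow, one_mul]
  have hEW1 : E ≤ W1 := by
    intro x hx
    obtain ⟨w, rfl⟩ := (hEdef x).mp hx
    rw [MonoidHom.mem_ker, map_mul, map_inv, avg_smul haS, hW0 _ (fun s hs => smul_avg hs w), mul_inv_cancel]
  by_contra hbot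
  have hane : ∃ w : W, a • w ≠ w := by
    by_contra h
    push Not at h
    refine hbot ((Subgroup.eq_bot_iff_forall E).mpr fun x hx => ?_)
    obtain ⟨w, rfl⟩ := (hEdef x).mp hx
    rw [h w, mul_inv_cancel]
  -- the operator moves `S` without fixed points on the module
  let ψ : Y →* MulAut W := MulDistribMulAction.toMulAut Y W
  have hψ : ∀ y y' : Y, ψ y = ψ y' ↔ ∀ w : W, y • w = y' • w := fun y y' =>
    ⟨fun h w => DFunLike.congr_fun h w, fun h => MulEquiv.ext h⟩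
  have hfpf : ∀ i, 0 < i → i < m → ∀ s ∈ S, (∀ w : W, s • a ^ i • w = a ^ i • s • w) → ∀ w : W, s • w = w := by
    intro i hi him s hs hcom w
    set Tb := T.map ψ
    set Ab := A1.map ψ
    haveI : IsMulCommutative Tb := ⟨⟨by
      rintro ⟨_, t, ht, rfl⟩ ⟨_, t', ht', rfl⟩
      refine Subtype.ext ?_
      show ψ t * ψ t' = ψ t' * ψ t
      rw [← map_mul, ← map_mul, hψ]
      intro w
      rw [mul_smul, mul_smul, hTcomm t ht t' ht' w]⟩⟩
    have hAb : Ab ≤ Subgroup.normalizer (Tb : Set (MulAut W)) :=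
      (Subgroup.map_mono hA1T).trans (Subgroup.le_normalizer_map ψ)
    have hcb : (Nat.card Ab).Coprime (Nat.card Tb) :=
      (hcopAT.coprime_dvd_left (Subgroup.card_map_dvd A1 ψ)).coprime_dvd_right (Subgroup.card_map_dvd T ψ)
    have hinf := abelian_commutator_inf_fixed Ab Tb hAb hcb
    have hmem : ψ s ∈ (Tb ⊓ Subgroup.centralizer (Ab : Set (MulAut W))) ⊓ ⁅Tb, Ab⁆ := by
      refine ⟨⟨Subgroup.mem_map_of_mem ψ (hST hs), Subgroup.mem_centralizer_iff.mpr ?_⟩, ?_⟩
      · rintro _ ⟨g, hg, rfl⟩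
        have hgen : a ∈ Subgroup.zpowers (a ^ i) := mem_zpowers_pow_iff.mpr (by
          rw [hord]
          exact ((Fact.out : m.Prime).coprime_iff_not_dvd.mpr (Nat.not_dvd_of_pos_of_lt hi him)).symm)
        obtain ⟨e, rfl⟩ := Subgroup.mem_zpowers_iff.mp ((Subgroup.zpowers_le.mpr hgen) hg)
        have h1 : Commute (ψ (a ^ i)) (ψ s) := by
          show ψ (a ^ i) * ψ s = ψ s * ψ (a ^ i)
          rw [← map_mul, ← map_mul, hψ]
          intro w
          rw [mul_smul, mul_smul, hcom]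
        rw [map_zpow]
        exact (h1.zpow_left e).eq
      · rw [← Subgroup.map_commutator]
        exact Subgroup.mem_map_of_mem ψ hs
    rw [hinf, Subgroup.mem_bot, ← map_one ψ, hψ] at hmem
    simpa using hmem w
  have hsolS : Group.IsSolvable S := @IsNilpotent.to_isSolvable _ _ (hT.to_le hST).isNilpotent
  obtain ⟨C, hC, hcardC⟩ := card_free (S := S) (Fact.out : m.Prime) ham haS hfpf W1
    (fun s hs w hw => by rw [MonoidHom.mem_ker] at hw ⊢; rw [avg_smul_self hs]; exact hw)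
    (fun w hw => by rw [MonoidHom.mem_ker] at hw ⊢; rw [avg_smul haS, hw, smul_one])
    (fun w hw hfx => eq_one_of_fixed hcopS hfx hw) hane
    (by
      rw [hkW]
      refine Nat.Coprime.pow_left _ (Nat.Coprime.mul_right ?_ ?_)
      · obtain ⟨j, hj⟩ := (hT.to_le hST).exists_card_eq
        rw [hj]
        exact ((Nat.coprime_primes Nat.prime_two Fact.out).mpr hr2.symm).pow_right j
      · exact (Nat.coprime_primes Nat.prime_two Fact.out).mpr hm2.symm)
    hsolS
  -- `W1` is `E` times its fixed part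
  have hprod : Nat.card W1 = Nat.card E * Nat.card C := by
    let θ : W1 →* W := MonoidHom.mk' (fun w => a • (w : W) * (w : W)⁻¹) fun u v => by
      show a • ((u : W) * v) * ((u : W) * v)⁻¹ = a • (u : W) * (u : W)⁻¹ * (a • (v : W) * (v : W)⁻¹)
      rw [smul_mul', mul_inv, mul_mul_mul_comm]
    have hrange : θ.range = E := by
      refine le_antisymm (by rintro _ ⟨w, rfl⟩; exact (hEdef _).mpr ⟨w, rfl⟩) fun x hx => ?_
      obtain ⟨w, rfl⟩ := (hEdef x).mp hx
      obtain ⟨e, he, hwe⟩ := hdec w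
      refine ⟨⟨e, hEW1 he⟩, ?_⟩
      show a • e * e⁻¹ = _
      conv_rhs => rw [← hwe, smul_mul', smul_avg (Subgroup.mem_zpowers a), mul_inv, mul_mul_mul_comm, mul_inv_cancel, one_mul]
    have hker : θ.ker = C.subgroupOf W1 := by
      ext w
      rw [MonoidHom.mem_ker, Subgroup.mem_subgroupOf, hC]
      show a • (w : W) * (w : W)⁻¹ = 1 ↔ _
      rw [mul_inv_eq_one]
      exact ⟨fun h => ⟨w.2, h⟩, fun h => h.2⟩
    have h := Subgroup.card_mul_index θ.ker
    rw [Subgroup.index_ker, hrange, hker, Nat.card_congr (Subgroup.subgroupOfEquivOfLe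
      (fun w hw => ((hC w).mp hw).1)).toEquiv, mul_comm] at h
    exact h.symm
  obtain ⟨j, -, hj⟩ := (Nat.dvd_prime_pow Nat.prime_two).mp (hkW ▸ C.card_subgroup_dvd_card)
  rw [hcardC, hE, hj, ← pow_mul, ← pow_add] at hprod
  have hexpo : j * m = 2 * n + j := Nat.pow_right_injective le_rfl hprod
  have hjn : j * 2 ^ n = 2 * n := by rw [hmn, Nat.mul_add] at hexpo; omega
  have hn0 : n ≠ 0 := fun h => hm2 (by rw [hmn, h]; norm_num)
  have hj1 : j = 1 := by
    have h2n := Nat.lt_two_pow_self (n := n)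
    rcases Nat.lt_or_ge j 2 with h | h
    · interval_cases j
      · omega
      · rfl
    · exfalso
      have := Nat.mul_le_mul_right (2 ^ n) h
      omega
  subst hj1
  -- the fixed element is in the radical
  rw [pow_one] at hj
  obtain ⟨u, hu, hu1⟩ := (Subgroup.bot_or_exists_ne_one C).resolve_left fun h => by
    rw [h, Subgroup.card_bot] at hj
    omega
  obtain ⟨hu1W, hau⟩ := (hC u).mp hu
  refine hu1 (hnd u fun y => ?_)
  let fu : W →* Z := MonoidHom.mk' (fun y => β u y) fun x z => hr u x z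
  have hEker : ∀ x ∈ E, fu x = 1 := by
    intro x hx
    obtain ⟨w, rfl⟩ := (hEdef x).mp hx
    rw [map_mul, map_inv, mul_inv_eq_one]
    show β u (a • w) = β u w
    conv_lhs => rw [← hau, hinv]
  have hCker : ∀ x ∈ C, fu x = 1 := by
    intro x hx
    have hcard2 : Nat.card C = 2 := hj
    obtain ⟨y₀, hy₀, huniq⟩ := (Nat.card_eq_two_iff' (1 : C)).mp hcard2
    by_cases hx1 : x = 1
    · rw [hx1, map_one]
    have e : (⟨x, hx⟩ : C) = ⟨u, hu⟩ := (huniq _ (fun e => hx1 (congrArg Subtype.val e))).trans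
      (huniq _ (fun e => hu1 (congrArg Subtype.val e))).symm
    rw [show x = u from congrArg Subtype.val e]
    exact hdiag u
  have hW1ker : ∀ x ∈ W1, fu x = 1 := by
    intro x hx
    obtain ⟨e, he, hxe⟩ := hdec x
    rw [← hxe, map_mul, hEker e he, mul_one]
    refine hCker _ ((hC _).mpr ⟨?_, smul_avg (Subgroup.mem_zpowers a) x⟩)
    rw [show avg A1 x = x * e⁻¹ from eq_mul_inv_of_mul_eq hxe]
    exact W1.mul_mem hx (W1.inv_mem (hEW1 he))
  have hW0ker : fu (avg S y) = 1 := by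
    refine hsymm _ _ ?_
    let g : W →* Z := MonoidHom.mk' (fun z => β (avg S y) z) fun x z => hr _ x z
    show g u = 1
    have h1 : g (avg S u) = g u ^ Nat.card S := by
      have := Fintype.ofFinite S
      rw [avg_apply S u, map_prod, Finset.prod_congr rfl fun (s : S) _ => show g ((s : Y) • u) = g u by
        show β (avg S y) ((s : Y) • u) = β (avg S y) u
        conv_lhs => rw [← smul_avg s.2 y, hinv], Finset.prod_const, Finset.card_univ, Nat.card_eq_fintype_card]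
    rw [MonoidHom.mem_ker.mp hu1W, map_one] at h1
    have hg2 : g u ^ 2 = 1 := hZ2 _ _
    obtain ⟨k, hk⟩ : Odd (Nat.card S) := by
      rw [← Nat.not_even_iff_odd, even_iff_two_dvd]
      intro h
      refine hr2 ((Nat.prime_dvd_prime_iff_eq Nat.prime_two Fact.out).mp (Nat.prime_two.dvd_of_dvd_pow (n := kT) ?_)).symm
      exact hkT ▸ h.trans (Subgroup.card_dvd_of_le hST)
    rw [hk, pow_succ, pow_mul, hg2, one_pow, one_mul] at h1
    exact h1.symm
  show fu y = 1
  have hy1 : (avg S y)⁻¹ * y ∈ W1 := by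
    rw [MonoidHom.mem_ker, map_mul, map_inv]
    rw [avg_of_fixed (fun s hs => smul_avg hs y), hSodd, inv_mul_cancel]
  have e : y = avg S y * ((avg S y)⁻¹ * y) := (mul_inv_cancel_left _ _).symm
  rw [e, map_mul, hW0ker, hW1ker _ hy1, one_mul]

variable {X : Type*} [Group X] [Finite X]

/-- The operator centralizes the group. -/
theorem centralize_step {ℓ s r m : ℕ} [Fact ℓ.Prime] [Fact s.Prime] [Fact r.Prime] [Fact m.Prime]
    (V Q Z0 T : Subgroup X) [V.Normal] (a : X)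
    (hV : Cfsg.IsElementaryAbelian ℓ V) (hℓs : ℓ ≠ s) (hℓm : ℓ ≠ m) (hms : m ≠ s) (hrs : r ≠ s) (hmr : m ≠ r)
    (hord : orderOf a = m) (haQ : a ∈ Subgroup.normalizer (Q : Set X)) (haT : a ∈ Subgroup.normalizer (T : Set X))
    (hTQ : T ≤ Subgroup.normalizer (Q : Set X)) (hQ : IsPGroup s Q) (hT : IsPGroup r T)
    (hfaith : Q ⊓ Subgroup.centralizer (V : Set X) = ⊥) (hfix : V ⊓ Subgroup.centralizer ({a} : Set X) = ⊥)
    (hZQ : Z0 ≤ Q) (hZc : ∀ z ∈ Z0, ∀ g ∈ Q, g * z = z * g) (hZcard : Nat.card Z0 = s)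
    (haZ : ∀ z ∈ Z0, a * z = z * a) (hTZ : T ≤ Subgroup.normalizer (Z0 : Set X))
    (hder : ∀ g ∈ Q, ∀ t ∈ Q, ⁅t, g⁆ ∈ Z0) (hpow : ∀ x ∈ Q, ∀ y ∈ Q, x ^ s * y = y * x ^ s)
    (hQT : ⁅Q, T⁆ = Q) (hTT : ∀ t ∈ T, ∀ t' ∈ T, ∀ x ∈ Q, ⁅t, t'⁆ * x = x * ⁅t, t'⁆) :
    ∀ x ∈ Q, a * x = x * a := by
  classical
  haveI := hV.1
  by_contra hne
  push Not at hne
  obtain ⟨k, hk⟩ := hQ.exists_card_eq
  obtain ⟨l, hl⟩ : ∃ l, Nat.card V = ℓ ^ l :=
    IsPGroup.exists_card_eq (fun v : V => ⟨1, Subtype.ext (by simpa using hV.2 v v.2)⟩)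
  have hcop : (Nat.card Q).Coprime (Nat.card V) := by
    rw [hk, hl]; exact (((Nat.coprime_primes Fact.out Fact.out).mpr hℓs.symm).pow_left k).pow_right l
  have hP := center_fixed V Q a (Fact.out : m.Prime) hord haQ hcop
    (by rw [hk]; exact ((Nat.coprime_primes Fact.out Fact.out).mpr hms).pow_right k) hfaith hfix
  obtain ⟨hs2, n, hmn, hcard⟩ := moved_card V Q Z0 a hV hℓs hℓm hms hord
    (Subgroup.le_normalizer_of_normal (Subgroup.mem_top a)) Subgroup.le_normalizer_of_normal haQ hQ hfaith hfix hZQ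
    hZc hZcard haZ hder hP hne
  subst hs2
  have hm2 : m ≠ 2 := hms
  have haNZ : a ∈ Subgroup.normalizer (Z0 : Set X) := Subgroup.mem_normalizer_fintype fun z hz => by
    rw [haZ z hz, mul_inv_cancel_right]; exact hz
  set N := Subgroup.normalizer (Q : Set X) ⊓ Subgroup.normalizer (Z0 : Set X) with hN
  set C : Subgroup ↥Q := Subgroup.center ↥Q with hCdef
  have hcomC : ∀ x y : ↥Q, ⁅x, y⁆ ∈ C := fun x y => Subgroup.mem_center_iff.mpr fun z =>
    Subtype.ext (hZc _ (hder y y.2 x x.2) z z.2)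
  let W := ↥Q ⧸ C
  letI : CommGroup W := { (inferInstance : Group W) with
    mul_comm := by
      rintro ⟨x⟩ ⟨y⟩
      refine (QuotientGroup.eq.mpr ?_ : (QuotientGroup.mk (x * y) : ↥Q ⧸ C) = QuotientGroup.mk (y * x))
      have := hcomC y⁻¹ x⁻¹
      convert this using 1
      simp [commutatorElement_def, mul_assoc] }
  let ρ : N →* MulAut ↥Q := Q.normalizerMonoidHom.comp (Subgroup.inclusion inf_le_left)
  have hρ : ∀ (g : N) (x : ↥Q), ((ρ g x : ↥Q) : X) = g * x * (g : X)⁻¹ := fun g x => rfl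
  have hρC : ∀ g : N, C ≤ C.comap (ρ g).toMonoidHom := fun g x hx => by
    rw [Subgroup.mem_comap, Subgroup.mem_center_iff]
    intro z
    obtain ⟨z', rfl⟩ := (ρ g).surjective z
    show ρ g z' * ρ g x = ρ g x * ρ g z'
    rw [← map_mul, ← map_mul, Subgroup.mem_center_iff.mp hx z']
  letI : MulDistribMulAction N W :=
    { smul := fun g w => QuotientGroup.map C C (ρ g).toMonoidHom (hρC g) w
      one_smul := by
        rintro ⟨x⟩
        show (QuotientGroup.mk (ρ 1 x) : ↥Q ⧸ C) = QuotientGroup.mk x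
        rw [map_one]; rfl
      mul_smul := by
        rintro g h ⟨x⟩
        show (QuotientGroup.mk (ρ (g * h) x) : ↥Q ⧸ C) = QuotientGroup.mk (ρ g (ρ h x))
        rw [map_mul]; rfl
      smul_mul := fun g u v => map_mul _ u v
      smul_one := fun g => map_one _ }
  have hmk : ∀ (g : N) (x : ↥Q), g • (QuotientGroup.mk x : W) = QuotientGroup.mk (ρ g x) := fun g x => rfl
  letI : CommGroup C := { (inferInstance : Group C) with
    mul_comm := fun u v => Subtype.ext (Subgroup.mem_center_iff.mp v.2 u) }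
  let β : W → W → C := fun u v => ⟨⁅u.out, v.out⁆, hcomC _ _⟩
  have hcc : ∀ z ∈ C, ∀ x : ↥Q, z * x = x * z := fun z hz x => (Subgroup.mem_center_iff.mp hz x).symm
  have hβmk : ∀ x y : ↥Q, ((β (QuotientGroup.mk x) (QuotientGroup.mk y) : C) : ↥Q) = ⁅x, y⁆ := by
    intro x y
    obtain ⟨⟨z, hz⟩, hz'⟩ := QuotientGroup.mk_out_eq_mul C x
    obtain ⟨⟨z₂, hz₂⟩, hz₂'⟩ := QuotientGroup.mk_out_eq_mul C y
    show ⁅(QuotientGroup.mk x : ↥Q ⧸ C).out, (QuotientGroup.mk y : ↥Q ⧸ C).out⁆ = _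
    rw [hz', hz₂']
    simp only [commutatorElement_def, mul_inv_rev]
    show x * z * (y * z₂) * (z⁻¹ * x⁻¹) * (z₂⁻¹ * y⁻¹) = x * y * x⁻¹ * y⁻¹
    have e1 := hcc z hz
    have e2 := hcc z₂ hz₂
    calc x * z * (y * z₂) * (z⁻¹ * x⁻¹) * (z₂⁻¹ * y⁻¹) = x * (z * (y * z₂)) * z⁻¹ * x⁻¹ * z₂⁻¹ * y⁻¹ := by group
      _ = x * y * z₂ * x⁻¹ * z₂⁻¹ * y⁻¹ := by rw [e1 (y * z₂)]; group
      _ = x * y * (z₂ * x⁻¹) * z₂⁻¹ * y⁻¹ := by group
      _ = _ := by rw [e2 x⁻¹]; group
  have hsq : ∀ w : C, (∃ x y : ↥Q, (w : ↥Q) = ⁅x, y⁆) → w ^ 2 = 1 := by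
    rintro w ⟨x, y, hw⟩
    refine Subtype.ext (Subtype.ext ?_)
    have hz : ((w : ↥Q) : X) ∈ Z0 := by rw [hw]; exact hder y y.2 x x.2
    have := congrArg Subtype.val (pow_card_eq_one' (x := (⟨_, hz⟩ : Z0)))
    rwa [Subgroup.coe_pow, hZcard] at this
  have hexp : ∀ w : W, w ^ 2 = 1 := by
    rintro ⟨x⟩
    refine ((QuotientGroup.eq_one_iff _).mpr (Subgroup.mem_center_iff.mpr fun y => Subtype.ext ?_) :
      (QuotientGroup.mk (x ^ 2) : ↥Q ⧸ C) = 1)
    exact (hpow x x.2 y y.2).symm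
  set T' := T.subgroupOf N with hT'
  have hTN : T ≤ N := le_inf hTQ hTZ
  set a' : N := ⟨a, haQ, haNZ⟩ with ha'
  let θ : W →* W := MonoidHom.mk' (fun w => a' • w * w⁻¹) fun u v => by
    show a' • (u * v) * (u * v)⁻¹ = a' • u * u⁻¹ * (a' • v * v⁻¹)
    rw [smul_mul', mul_inv, mul_mul_mul_comm]
  have hr2 : r ≠ 2 := hrs
  have hTW : ∀ w : W, avg T' w = 1 := by
    intro w
    obtain ⟨x, rfl⟩ := QuotientGroup.mk_surjective w
    let K : Subgroup X := ((avg T').ker.comap (QuotientGroup.mk' C)).map Q.subtype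
    have hle : ⁅Q, T⁆ ≤ K := by
      rw [Subgroup.commutator_le]
      intro q hq t ht
      refine ⟨⟨q, hq⟩ * (ρ ⟨t, hTN ht⟩ ⟨q, hq⟩)⁻¹, ?_, by simp [commutatorElement_def, hρ, mul_assoc]⟩
      show avg T' (QuotientGroup.mk (⟨q, hq⟩ * (ρ ⟨t, hTN ht⟩ ⟨q, hq⟩)⁻¹) : W) = 1
      rw [show (QuotientGroup.mk (⟨q, hq⟩ * (ρ ⟨t, hTN ht⟩ ⟨q, hq⟩)⁻¹) : W) =
        (QuotientGroup.mk (⟨q, hq⟩ : ↥Q) : W) * ((⟨t, hTN ht⟩ : N) • (QuotientGroup.mk (⟨q, hq⟩ : ↥Q) : W))⁻¹ from rfl,
        map_mul, map_inv, avg_smul_self (show (⟨t, hTN ht⟩ : N) ∈ T' from ht), mul_inv_cancel]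
    rw [hQT] at hle
    obtain ⟨y, hy, hyx⟩ := hle x.2
    rw [show x = y from Subtype.ext hyx.symm]
    exact hy
  have hEcard : Nat.card θ.range = 2 ^ (2 * n) := by
    rw [← hcard]
    set Q1 := ⁅Q, Subgroup.zpowers a⁆ ⊔ Z0 with hQ1
    have hQ1Q : Q1 ≤ Q := sup_le (commutator_le_left_of_le_normalizer (Subgroup.zpowers_le.mpr haQ)) hZQ
    have hmap : (Q1.subgroupOf Q).map (QuotientGroup.mk' C) = θ.range := by
      refine le_antisymm ?_ ?_
      · let K : Subgroup X := (θ.range.comap (QuotientGroup.mk' C)).map Q.subtype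
        have hle : Q1 ≤ K := by
          refine sup_le ?_ fun z hz => ⟨⟨z, hZQ hz⟩, ?_, rfl⟩
          · rw [Subgroup.commutator_le]
            intro q hq b hb
            have hb' : b ∈ N := Subgroup.zpowers_le.mpr (show a ∈ N from ⟨haQ, haNZ⟩) hb
            refine ⟨⟨q, hq⟩ * (ρ ⟨b, hb'⟩ ⟨q, hq⟩)⁻¹, ?_, by simp [commutatorElement_def, hρ, mul_assoc]⟩
            show ((QuotientGroup.mk (⟨q, hq⟩ : ↥Q) : W) * ((⟨b, hb'⟩ : N) • (QuotientGroup.mk (⟨q, hq⟩ : ↥Q) : W))⁻¹) ∈ θ.range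
            have hst : Subgroup.zpowers a' ≤ stabMod θ.range :=
              Subgroup.zpowers_le.mpr fun w => ⟨w, rfl⟩
            obtain ⟨i, hi⟩ := Subgroup.mem_zpowers_iff.mp hb
            have h := θ.range.inv_mem (hst (Subgroup.mem_zpowers_iff.mpr ⟨i, rfl⟩)
              (QuotientGroup.mk (⟨q, hq⟩ : ↥Q) : W))
            rw [mul_inv_rev, inv_inv] at h
            rwa [show (⟨b, hb'⟩ : N) = a' ^ i from Subtype.ext (by simp [ha', hi])]
          · show (QuotientGroup.mk (⟨z, hZQ hz⟩ : ↥Q) : W) ∈ θ.range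
            rw [show (QuotientGroup.mk (⟨z, hZQ hz⟩ : ↥Q) : W) = 1 from (QuotientGroup.eq_one_iff _).mpr
              (Subgroup.mem_center_iff.mpr fun y => Subtype.ext (hZc z hz y y.2))]
            exact one_mem _
        rintro _ ⟨x, hx, rfl⟩
        obtain ⟨y, hy, hyx⟩ := hle (show (x : X) ∈ Q1 from hx)
        rw [show x = y from Subtype.ext hyx.symm]
        exact hy
      · rintro _ ⟨w, rfl⟩
        obtain ⟨x, rfl⟩ := QuotientGroup.mk_surjective w
        refine ⟨ρ a' x * x⁻¹, ?_, rfl⟩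
        rw [SetLike.mem_coe, Subgroup.mem_subgroupOf]
        show a * (x : X) * a⁻¹ * (x : X)⁻¹ ∈ Q1
        rw [show a * (x : X) * a⁻¹ * (x : X)⁻¹ = ⁅(x : X), a⁆⁻¹ by simp [commutatorElement_def, mul_assoc]]
        exact Subgroup.mem_sup_left (Subgroup.inv_mem _ (Subgroup.commutator_mem_commutator x.2 (Subgroup.mem_zpowers a)))
    rw [← hmap, ← Subgroup.relIndex_ker, QuotientGroup.ker_mk']
    have hCeq : C = (Q ⊓ Subgroup.centralizer (Q : Set X)).subgroupOf Q := by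
      ext x
      rw [Subgroup.mem_center_iff, Subgroup.mem_subgroupOf]
      exact ⟨fun h => ⟨x.2, Subgroup.mem_centralizer_iff.mpr fun q hq => congrArg Subtype.val (h ⟨q, hq⟩)⟩,
        fun h y => Subtype.ext (Subgroup.mem_centralizer_iff.mp h.2 y y.2)⟩
    rw [hCeq, Subgroup.relIndex_subgroupOf hQ1Q]
  have hbot := moved_trivial hexp (T := T') hr2 (hT.comap_subtype) (a := a') hmn hm2 hmr
    (Subtype.ext (by simp [ha', ← hord, pow_orderOf_eq_one])) (by rw [← hord]; exact (Subgroup.orderOf_coe a').symm)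
    (Subgroup.le_normalizer_comap N.subtype (show a' ∈ (Subgroup.normalizer (T : Set X)).comap N.subtype from haT))
    (fun t ht t' ht' w => by
      obtain ⟨x, rfl⟩ := QuotientGroup.mk_surjective w
      rw [hmk, hmk, hmk, hmk]
      refine congrArg QuotientGroup.mk (Subtype.ext ?_)
      simp only [hρ]
      have hx' : (t' : X) * t * x * (t' * t : X)⁻¹ ∈ Q := by
        have := mem_conj_normalizer (Subgroup.mul_mem _ (hTQ ht') (hTQ ht)) x.2
        exact this
      have h := hTT t ht t' ht' _ hx'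
      calc (t : X) * (t' * x * (t' : X)⁻¹) * (t : X)⁻¹
          = ⁅(t : X), (t' : X)⁆ * ((t' : X) * t * x * (t' * t : X)⁻¹) * ⁅(t : X), (t' : X)⁆⁻¹ := by
            simp only [commutatorElement_def]; group
        _ = (t' : X) * t * x * (t' * t : X)⁻¹ := by rw [h, mul_inv_cancel_right]
        _ = _ := by group)
    hTW β
    (by
      rintro ⟨x⟩ ⟨y⟩ ⟨z⟩
      refine Subtype.ext ((hβmk (x * y) z).trans ?_)
      show _ = ((β (QuotientGroup.mk x) (QuotientGroup.mk z) : C) : ↥Q) * ((β (QuotientGroup.mk y) (QuotientGroup.mk z) : C) : ↥Q)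
      rw [hβmk, hβmk, show ⁅x * y, z⁆ = (x * ⁅y, z⁆) * x⁻¹ * ⁅x, z⁆ by simp only [commutatorElement_def]; group,
        ← hcc _ (hcomC y z) x, mul_inv_cancel_right]
      exact hcc _ (hcomC y z) _)
    (by
      rintro ⟨x⟩ ⟨y⟩ ⟨z⟩
      refine Subtype.ext ((hβmk x (y * z)).trans ?_)
      show _ = ((β (QuotientGroup.mk x) (QuotientGroup.mk y) : C) : ↥Q) * ((β (QuotientGroup.mk x) (QuotientGroup.mk z) : C) : ↥Q)
      rw [hβmk, hβmk, show ⁅x, y * z⁆ = ⁅x, y⁆ * (y * ⁅x, z⁆ * y⁻¹) by simp only [commutatorElement_def]; group,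
        ← hcc _ (hcomC x z) y, mul_inv_cancel_right])
    (by
      rintro g ⟨x⟩ ⟨y⟩
      refine Subtype.ext ((hβmk (ρ g x) (ρ g y)).trans (Subtype.ext ?_))
      show _ = (((β (QuotientGroup.mk x) (QuotientGroup.mk y) : C) : ↥Q) : X)
      rw [hβmk, ← map_commutatorElement, hρ]
      have hz : ((⁅x, y⁆ : ↥Q) : X) ∈ Z0 := hder y y.2 x x.2
      by_cases h1 : ((⁅x, y⁆ : ↥Q) : X) = 1
      · rw [h1]; group
      have hz' : (g : X) * (⁅x, y⁆ : ↥Q) * (g : X)⁻¹ ∈ Z0 := mem_conj_normalizer g.2.2 hz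
      obtain ⟨y₀, -, huniq⟩ := (Nat.card_eq_two_iff' (1 : Z0)).mp hZcard
      exact congrArg Subtype.val ((huniq ⟨_, hz'⟩ (fun e => h1 (conj_eq_one_iff.mp (congrArg Subtype.val e)))).trans
        (huniq ⟨_, hz⟩ (fun e => h1 (congrArg Subtype.val e))).symm))
    (by rintro ⟨x⟩; exact Subtype.ext ((hβmk x x).trans (commutatorElement_self x)))
    (by
      rintro ⟨x⟩ ⟨y⟩ h
      have h1 : ⁅x, y⁆ = 1 := (hβmk x y).symm.trans (congrArg Subtype.val h)
      exact Subtype.ext ((hβmk y x).trans (by rw [← commutatorElement_inv, h1, inv_one]; rfl)))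
    (fun u v => hsq _ ⟨u.out, v.out, rfl⟩)
    (by
      rintro ⟨x⟩ h
      refine ((QuotientGroup.eq_one_iff x).mpr (Subgroup.mem_center_iff.mpr fun y => ?_) : _)
      have h1 : ⁅x, y⁆ = 1 := (hβmk x y).symm.trans (congrArg Subtype.val (h (QuotientGroup.mk y)))
      exact (commutatorElement_eq_one_iff_mul_comm.mp h1).symm)
    (E := θ.range) (fun x => ⟨fun ⟨w, hw⟩ => ⟨w, hw⟩, fun ⟨w, hw⟩ => ⟨w, hw⟩⟩) hEcard
  rw [hbot, Subgroup.card_bot] at hEcard
  have hn : 2 * n = 0 := by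
    by_contra h
    exact (Nat.one_lt_pow h (by norm_num : 1 < 2)).ne hEcard
  exact hm2 (by rw [hmn, show n = 0 by omega]; norm_num)

end Cfsg.Agent.Grp.PQ
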