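import Mathlib
import Cfsg.Agent.Lib.Grp.PQ.Step
import Cfsg.Agent.Lib.Grp.PQ.Util

/-!
The centralizing step modulo the kernel of an action.
-/

set_option autoImplicit false
set_option linter.unusedSectionVars false
set_option linter.style.haveILetI false

namespace Cfsg.Agent.Grp.PQ

open scoped Pointwise commutatorElement

variable {X : Type*} [Group X] [Finite X]

/-- The operator centralizes `Q` modulo the kernel `N` on `D`. -/
theorem centralize_mod {ℓ s r m : ℕ} [Fact ℓ.Prime] [Fact s.Prime] [Fact r.Prime] [Fact m.Prime]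
    (D Q Z T N : Subgroup X) (a : X)
    (hD : Cfsg.IsElementaryAbelian ℓ D) (hℓs : ℓ ≠ s) (hℓm : ℓ ≠ m) (hms : m ≠ s) (hrs : r ≠ s) (hmr : m ≠ r)
    (hord : orderOf a = m)
    (haD : a ∈ Subgroup.normalizer (D : Set X)) (haN : a ∈ Subgroup.normalizer (N : Set X))
    (haQ : a ∈ Subgroup.normalizer (Q : Set X)) (haT : a ∈ Subgroup.normalizer (T : Set X))
    (hQD : Q ≤ Subgroup.normalizer (D : Set X)) (hQN : Q ≤ Subgroup.normalizer (N : Set X))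
    (hTD : T ≤ Subgroup.normalizer (D : Set X)) (hTN : T ≤ Subgroup.normalizer (N : Set X))
    (hTQ : T ≤ Subgroup.normalizer (Q : Set X)) (hTZ : T ≤ Subgroup.normalizer (Z : Set X))
    (hQ : IsPGroup s Q) (hT : IsPGroup r T) (hZQ : Z ≤ Q) (hNQ : N ≤ Q)
    (hker : ∀ q ∈ Q, (∀ d ∈ D, q * d = d * q) → q ∈ N) (hND : ∀ n ∈ N, ∀ d ∈ D, n * d = d * n)
    (hfix : ∀ d ∈ D, a * d = d * a → d = 1)
    (hZc : ∀ z ∈ Z, ∀ g ∈ Q, g * z = z * g) (hZcard : N.relIndex Z = s)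
    (haZ : ∀ z ∈ Z, a * z * a⁻¹ * z⁻¹ ∈ N) (hder : ∀ g ∈ Q, ∀ t ∈ Q, ⁅t, g⁆ ∈ Z)
    (hpow : ∀ x ∈ Q, ∀ y ∈ Q, x ^ s * y = y * x ^ s) (hQT : ⁅Q, T⁆ = Q)
    (hTT : ∀ t ∈ T, ∀ t' ∈ T, ∀ x ∈ Q, ⁅t, t'⁆ * x = x * ⁅t, t'⁆) :
    ∀ x ∈ Q, a * x * a⁻¹ * x⁻¹ ∈ N := by
  classical
  set Y := Subgroup.normalizer (D : Set X) ⊓ Subgroup.normalizer (N : Set X) with hY
  haveI := hD.1
  have hQY : Q ≤ Y := le_inf hQD hQN
  have hTY : T ≤ Y := le_inf hTD hTN
  have hNY : N ≤ Y := hNQ.trans hQY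
  have haY : a ∈ Y := ⟨haD, haN⟩
  have hcop : (Nat.card Q).Coprime (Nat.card D) := by
    obtain ⟨k, hk⟩ := hQ.exists_card_eq
    obtain ⟨l, hl⟩ : ∃ l, Nat.card D = ℓ ^ l :=
      IsPGroup.exists_card_eq (fun v : D => ⟨1, Subtype.ext (by simpa using hD.2 v v.2)⟩)
    rw [hk, hl]; exact (((Nat.coprime_primes Fact.out Fact.out).mpr hℓs.symm).pow_left k).pow_right l
  have hDN' : ∀ d ∈ D, d ∈ N → d = 1 := fun d hd hdN => by
    have := (inf_eq_bot_of_coprime hcop).le (show d ∈ Q ⊓ D from ⟨hNQ hdN, hd⟩)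
    exact this
  have hDY : D ≤ Y := le_inf Subgroup.le_normalizer fun d hd => Subgroup.mem_normalizer_fintype fun n hn => by
    rw [← hND n hn d hd, mul_inv_cancel_right]; exact hn
  set N' := N.subgroupOf Y with hN'
  haveI : N'.Normal := Subgroup.normal_subgroupOf_of_le_normalizer inf_le_right
  haveI : (D.subgroupOf Y).Normal := Subgroup.normal_subgroupOf_of_le_normalizer inf_le_left
  set π := QuotientGroup.mk' N' with hπ
  let im : Subgroup X → Subgroup (↥Y ⧸ N') := fun H => (H.subgroupOf Y).map π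
  have hπs : Function.Surjective π := QuotientGroup.mk'_surjective N'
  have hker1 : ∀ y : Y, π y = 1 ↔ (y : X) ∈ N := fun y => QuotientGroup.eq_one_iff y
  have hnorm : ∀ (H : Subgroup X) (g : Y), (g : X) ∈ Subgroup.normalizer (H : Set X) →
      π g ∈ Subgroup.normalizer ((im H : Subgroup (↥Y ⧸ N')) : Set (↥Y ⧸ N')) := fun H g hg =>
    Subgroup.le_normalizer_map π ⟨g, Subgroup.le_normalizer_comap Y.subtype hg, rfl⟩
  haveI : (im D).Normal := Subgroup.Normal.map inferInstance π hπs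
  have hcomm : ∀ x y : Y, π x * π y = π y * π x ↔ ⁅(x : X), (y : X)⁆ ∈ N := fun x y => by
    rw [← commutatorElement_eq_one_iff_mul_comm, ← map_commutatorElement, hker1]
    exact Iff.rfl
  have hQY' : ∀ x : Y, π x ∈ im Q → (x : X) ∈ Q := by
    rintro x ⟨y, hy, hxy⟩
    have h : ((y⁻¹ * x : Y) : X) ∈ N := (hker1 _).mp (by rw [map_mul, map_inv, hxy, inv_mul_cancel])
    have h2 := Q.mul_mem (show (y : X) ∈ Q from hy) (hNQ h)
    simpa using h2
  set a' : ↥Y ⧸ N' := π ⟨a, haY⟩ with ha'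
  have hsub : ∀ H : Subgroup X, H ≤ Y → ∀ g ∈ H, ∃ h : g ∈ Y, π ⟨g, h⟩ ∈ im H :=
    fun H hH g hg => ⟨hH hg, ⟨_, hg, rfl⟩⟩
  have hamem : ∀ x : Y, (x : X) ∈ Q → (a' * π x = π x * a' ↔ ⁅a, (x : X)⁆ ∈ N) := fun x _ => hcomm ⟨a, haY⟩ x
  have hmain : ∀ x ∈ im Q, a' * x = x * a' := by
    refine centralize_step (ℓ := ℓ) (s := s) (r := r) (m := m) (im D) (im Q) (im Z) (im T) a' ?_ hℓs hℓm hms hrs hmr ?_
      (hnorm Q ⟨a, haY⟩ haQ) (hnorm T ⟨a, haY⟩ haT) ?_ ?_ ?_ ?_ ?_ ?_ ?_ ?_ ?_ ?_ ?_ ?_ ?_ ?_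
    · refine ⟨⟨⟨?_⟩⟩, ?_⟩
      · rintro ⟨_, x, hx, rfl⟩ ⟨_, y, hy, rfl⟩
        refine Subtype.ext ?_
        show π x * π y = π y * π x
        rw [← map_mul, ← map_mul, show x * y = y * x from Subtype.ext
          (congrArg Subtype.val (hD.1.is_comm.comm ⟨(x : X), hx⟩ ⟨(y : X), hy⟩) : _)]
      · rintro _ ⟨x, hx, rfl⟩
        rw [← map_pow, show x ^ ℓ = 1 from Subtype.ext (by simpa using hD.2 _ hx), map_one]
    · have hdvd : orderOf a' ∣ m := by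
        rw [← hord, ← Subgroup.orderOf_mk a haY]
        exact orderOf_map_dvd π _
      refine ((Nat.dvd_prime Fact.out).mp hdvd).resolve_left fun h => ?_
      rw [orderOf_eq_one_iff, hker1] at h
      obtain ⟨k, hk⟩ := hQ.exists_card_eq
      have h2 : m ∣ Nat.card Q := hord ▸ Subgroup.orderOf_dvd_natCard Q (hNQ h)
      rw [hk] at h2
      exact hms ((Nat.prime_dvd_prime_iff_eq Fact.out Fact.out).mp ((Fact.out : m.Prime).dvd_of_dvd_pow h2))
    · rintro _ ⟨t, ht, rfl⟩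
      exact hnorm Q t (hTQ ht)
    · exact (hQ.comap_subtype).map π
    · exact (hT.comap_subtype).map π
    · rw [Subgroup.eq_bot_iff_forall]
      rintro _ ⟨⟨q, hq, rfl⟩, hc⟩
      rw [hker1]
      refine hker _ hq fun d hd => ?_
      have h := (hcomm q ⟨d, hDY hd⟩).mp (Subgroup.mem_centralizer_iff.mp hc _ ⟨_, hd, rfl⟩).symm
      have hD' : ⁅(q : X), d⁆ ∈ D := D.mul_mem (mem_conj_normalizer (hQD hq) hd) (D.inv_mem hd)
      exact commutatorElement_eq_one_iff_mul_comm.mp (hDN' _ hD' h)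
    · rw [Subgroup.eq_bot_iff_forall]
      rintro _ ⟨⟨d, hd, rfl⟩, hc⟩
      rw [hker1]
      have h := (hcomm ⟨a, haY⟩ d).mp (Subgroup.mem_centralizer_singleton_iff.mp hc).symm
      have hD' : ⁅a, (d : X)⁆ ∈ D := D.mul_mem (mem_conj_normalizer haD hd) (D.inv_mem hd)
      rw [show (d : X) = 1 from hfix _ hd (commutatorElement_eq_one_iff_mul_comm.mp (hDN' _ hD' h))]
      exact N.one_mem
    · rintro _ ⟨z, hz, rfl⟩
      exact ⟨z, hZQ hz, rfl⟩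
    · rintro _ ⟨z, hz, rfl⟩ _ ⟨g, hg, rfl⟩
      rw [← map_mul, ← map_mul, show g * z = z * g from Subtype.ext (hZc _ hz _ hg)]
    · show Nat.card ↥((Z.subgroupOf Y).map π) = s
      rw [← Subgroup.relIndex_ker, QuotientGroup.ker_mk', hN', Subgroup.relIndex_subgroupOf (hZQ.trans hQY), hZcard]
    · rintro _ ⟨z, hz, rfl⟩
      exact (hcomm ⟨a, haY⟩ z).mpr (haZ _ hz)
    · rintro _ ⟨t, ht, rfl⟩
      exact hnorm Z t (hTZ ht)
    · rintro _ ⟨g, hg, rfl⟩ _ ⟨t, ht, rfl⟩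
      exact ⟨⁅t, g⁆, hder _ hg _ ht, map_commutatorElement π t g⟩
    · rintro _ ⟨x, hx, rfl⟩ _ ⟨y, hy, rfl⟩
      rw [← map_pow, ← map_mul, ← map_mul, show x ^ s * y = y * x ^ s from Subtype.ext (by simpa using hpow _ hx _ hy)]
    · show ⁅(Q.subgroupOf Y).map π, (T.subgroupOf Y).map π⁆ = (Q.subgroupOf Y).map π
      rw [← Subgroup.map_commutator]
      congr 1
      refine Subgroup.map_injective Y.subtype_injective ?_
      rw [Subgroup.map_commutator, Subgroup.map_subgroupOf_eq_of_le hQY, Subgroup.map_subgroupOf_eq_of_le hTY, hQT]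
    · rintro _ ⟨t, ht, rfl⟩ _ ⟨t', ht', rfl⟩ _ ⟨x, hx, rfl⟩
      rw [← map_commutatorElement, ← map_mul, ← map_mul,
        show ⁅t, t'⁆ * x = x * ⁅t, t'⁆ from Subtype.ext (hTT _ ht _ ht' _ hx)]
  intro x hx
  obtain ⟨hxY, hx'⟩ := hsub Q hQY x hx
  exact (hcomm ⟨a, haY⟩ ⟨x, hxY⟩).mp (hmain _ hx')

end Cfsg.Agent.Grp.PQ
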