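import Mathlib
import Cfsg.Agent.Lib.Grp.PQ.Reduce
import Cfsg.Agent.Lib.Grp.PQ.Operator
import Cfsg.Agent.Lib.Grp.Frattini
import Cfsg.Agent.Lib.Grp.FpfWard

/-!
Two invariant groups of coprime orders under a non-abelian operator group with prime order
subgroups, acting faithfully on a module, all without fixed points: they commute.
-/

set_option autoImplicit false
set_option linter.unusedSectionVars false
set_option linter.style.haveILetI false
set_option maxHeartbeats 800000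

namespace Cfsg.Agent.Grp.PQ

open scoped Pointwise commutatorElement

variable {X : Type*} [Group X] [Finite X]

theorem derived_lt {H : Subgroup X} (hH : Group.IsSolvable H) (hne : H ≠ ⊥) : ⁅H, H⁆ < H := by
  refine lt_of_le_of_ne (commutator_le_left_of_le_normalizer Subgroup.le_normalizer) fun h => ?_
  have h1 : commutator ↥H = ⊤ := by
    refine Subgroup.map_injective H.subtype_injective ?_
    rw [_root_.commutator_def, Subgroup.map_commutator, ← MonoidHom.range_eq_map, Subgroup.range_subtype]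
    exact h
  have := hH
  have : Nontrivial ↥H := (Subgroup.nontrivial_iff_ne_bot H).mpr hne
  exact (Group.IsSolvable.commutator_lt_top_of_nontrivial (G := ↥H)).ne h1

/-- A power of a central commutator. -/
theorem pow_commutator_of_commute {x y : X} (h : x * ⁅x, y⁆ = ⁅x, y⁆ * x) (n : ℕ) :
    ⁅x ^ n, y⁆ = ⁅x, y⁆ ^ n := by
  induction n with
  | zero => simp
  | succ n ih =>
    rw [show ⁅x ^ (n + 1), y⁆ = x ^ n * ⁅x, y⁆ * (x ^ n)⁻¹ * ⁅x ^ n, y⁆ by
      rw [pow_succ]; simp only [commutatorElement_def]; group]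
    rw [((show Commute x ⁅x, y⁆ from h).pow_left n).eq, mul_inv_cancel_right, ih, pow_succ']

theorem mem_of_pow_mem {s : ℕ} [hs : Fact s.Prime] {y : X} (hy : y ^ s = 1) (L : Subgroup X) {j : ℤ}
    (h : y ^ j ∈ L) : y ^ j = 1 ∨ y ∈ L := by
  by_cases hd : (s : ℤ) ∣ j
  · obtain ⟨k, rfl⟩ := hd
    left
    rw [zpow_mul, zpow_natCast, hy, one_zpow]
  · right
    obtain ⟨u, v, huv⟩ : ∃ u v : ℤ, (1 : ℤ) = s * u + j * v := by
      have hcop : Int.gcd (s : ℤ) j = 1 := by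
        rw [Int.gcd_eq_natAbs, Int.natAbs_natCast]
        exact (Fact.out : s.Prime).coprime_iff_not_dvd.mpr (fun h => hd (Int.ofNat_dvd_left.mpr h))
      exact ⟨_, _, by rw [← Int.gcd_eq_gcd_ab, hcop]; rfl⟩
    rw [← zpow_one y, huv, zpow_add, zpow_mul, zpow_natCast, hy, one_zpow, one_mul, zpow_mul]
    exact L.zpow_mem h v

/-- The faithful case. -/
theorem core {ℓ s r : ℕ} [Fact ℓ.Prime] [Fact s.Prime] [Fact r.Prime] (A V : Subgroup X) [V.Normal]
    (hA : IsOp A) (hV : Cfsg.IsElementaryAbelian ℓ V) (hℓs : ℓ ≠ s) (hrs : r ≠ s)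
    (hVA : V ⊓ Subgroup.centralizer (A : Set X) = ⊥) (hcopAV : (Nat.card A).Coprime (Nat.card V)) :
    ∀ (n : ℕ) (Q T : Subgroup X), Nat.card Q + Nat.card T = n → IsPGroup s Q → IsPGroup r T →
      A ≤ Subgroup.normalizer (Q : Set X) → A ≤ Subgroup.normalizer (T : Set X) →
      T ≤ Subgroup.normalizer (Q : Set X) → (Nat.card A).Coprime (Nat.card Q) →
      (Nat.card A).Coprime (Nat.card T) → Q ⊓ Subgroup.centralizer (A : Set X) = ⊥ →
      T ⊓ Subgroup.centralizer (A : Set X) = ⊥ → Q ⊓ Subgroup.centralizer (V : Set X) = ⊥ → ⁅Q, T⁆ = ⊥ := by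
  intro n
  induction n using Nat.strong_induction_on with
  | _ n ih =>
  intro Q T hn hQ hT hAQ hAT hTQ hcAQ hcAT hQA hTA hfaith
  classical
  by_cases hTb : T = ⊥
  · rw [hTb, Subgroup.commutator_bot_right]
  have hcopTQ : (Nat.card T).Coprime (Nat.card Q) := IsPGroup.coprime_card_of_ne r s hrs T Q hT hQ
  have hQsol : Group.IsSolvable Q := @IsNilpotent.to_isSolvable _ _ hQ.isNilpotent
  have hTsol : Group.IsSolvable T := @IsNilpotent.to_isSolvable _ _ hT.isNilpotent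
  have hsmallQ : ∀ Q0 : Subgroup X, Q0 < Q → A ≤ Subgroup.normalizer (Q0 : Set X) →
      T ≤ Subgroup.normalizer (Q0 : Set X) → ⁅Q0, T⁆ = ⊥ := fun Q0 hlt h1 h2 =>
    ih _ (by
      rw [← hn]
      have : Nat.card Q0 < Nat.card Q := lt_of_not_ge fun h => hlt.ne (Subgroup.eq_of_le_of_card_ge hlt.le h)
      omega)
      Q0 T rfl (hQ.to_le hlt.le) hT h1 hAT h2 (hcAQ.coprime_dvd_right (Subgroup.card_dvd_of_le hlt.le)) hcAT
      (le_bot_iff.mp (hQA ▸ inf_le_inf_right _ hlt.le)) hTA (le_bot_iff.mp (hfaith ▸ inf_le_inf_right _ hlt.le))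
  by_cases hQT : ⁅Q, T⁆ = Q
  swap
  · have h := hsmallQ ⁅Q, T⁆ (lt_of_le_of_ne (commutator_le_left_of_le_normalizer hTQ) hQT)
      (le_normalizer_commutator' hAQ hAT) (right_le_normalizer_commutator T Q)
    rwa [commutator_commutator_eq T Q hTQ hcopTQ (Or.inl hTsol)] at h
  by_contra hne
  have hQb : Q ≠ ⊥ := fun e => hne (by rw [hQT, e])
  have hT' : ⁅Q, ⁅T, T⁆⁆ = ⊥ := by
    have hlt := derived_lt hTsol hTb
    exact ih _ (by
      rw [← hn]
      have : Nat.card ↥⁅T, T⁆ < Nat.card T := lt_of_not_ge fun h => hlt.ne (Subgroup.eq_of_le_of_card_ge hlt.le h)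
      omega)
      Q ⁅T, T⁆ rfl hQ (hT.to_le hlt.le) hAQ (le_normalizer_commutator' hAT hAT) (hlt.le.trans hTQ) hcAQ
      (hcAT.coprime_dvd_right (Subgroup.card_dvd_of_le hlt.le)) hQA
      (le_bot_iff.mp (hTA ▸ inf_le_inf_right _ hlt.le)) hfaith
  have hTT : ∀ t ∈ T, ∀ t' ∈ T, ∀ x ∈ Q, ⁅t, t'⁆ * x = x * ⁅t, t'⁆ := fun t ht t' ht' x hx =>
    (commutatorElement_eq_one_iff_mul_comm.mp ((Subgroup.eq_bot_iff_forall _).mp hT' _
      (Subgroup.commutator_mem_commutator hx (Subgroup.commutator_mem_commutator ht ht')))).symm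
  -- the Frattini subgroup is central
  set F : Subgroup X := (frattini Q).map Q.subtype with hF
  have hFQ : F ≤ Q := Subgroup.map_subtype_le _
  have hNF := le_normalizer_map_char (Q := Q) (frattini Q)
  have hFlt : F < Q := by
    refine lt_of_le_of_ne hFQ fun e => ?_
    have htop : frattini Q = ⊤ := Subgroup.map_injective Q.subtype_injective (by
      rw [← hF, e, ← MonoidHom.range_eq_map, Subgroup.range_subtype])
    have : Nontrivial ↥Q := (Subgroup.nontrivial_iff_ne_bot Q).mpr hQb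
    obtain h | ⟨M, hM, -⟩ := eq_top_or_exists_le_coatom (⊥ : Subgroup Q)
    · exact bot_ne_top h
    · exact hM.1 (top_le_iff.mp (htop ▸ frattini_le_coatom hM))
  have hFT : ⁅F, T⁆ = ⊥ := hsmallQ F hFlt (hAQ.trans hNF) (hTQ.trans hNF)
  have hFc : ∀ x ∈ F, ∀ y ∈ Q, x * y = y * x := by
    have h : ⁅⁅Q, T⁆, F⁆ ≤ (⊥ : Subgroup X) := by
      refine (Subgroup.commutator_commutator_eq_bot_of_rotate ?_ ?_).le
      · rw [Subgroup.commutator_comm T F, hFT, Subgroup.commutator_bot_left]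
      · exact le_bot_iff.mp ((Subgroup.commutator_mono
          (commutator_le_left_of_le_normalizer (Subgroup.le_normalizer.trans hNF)) le_rfl).trans hFT.le)
    rw [hQT] at h
    exact fun x hx y hy => (commutatorElement_eq_one_iff_mul_comm.mp
      (h (Subgroup.commutator_mem_commutator hy hx))).symm
  have hpow : ∀ x ∈ Q, ∀ y ∈ Q, x ^ s * y = y * x ^ s := fun x hx y hy =>
    hFc _ ⟨⟨x, hx⟩ ^ s, pGroup_pow_mem_frattini hQ _, by simp⟩ y hy
  have hder : ∀ x ∈ Q, ∀ y ∈ Q, ⁅x, y⁆ ∈ F := fun x hx y hy =>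
    ⟨⁅(⟨x, hx⟩ : Q), (⟨y, hy⟩ : Q)⁆, pGroup_commutator_le_frattini hQ
      (Subgroup.commutator_mem_commutator (Subgroup.mem_top _) (Subgroup.mem_top _)), rfl⟩
  -- the elements of order `s` of the centre
  let Z : Subgroup X :=
    { carrier := {v | v ∈ Q ∧ (∀ x ∈ Q, v * x = x * v) ∧ v ^ s = 1}
      one_mem' := ⟨Q.one_mem, fun x _ => by simp, one_pow s⟩
      mul_mem' := fun {a b} ha hb => ⟨Q.mul_mem ha.1 hb.1, fun x hx => by
          rw [mul_assoc, hb.2.1 x hx, ← mul_assoc, ha.2.1 x hx, mul_assoc],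
        by rw [(show Commute a b from ha.2.1 b hb.1).mul_pow, ha.2.2, hb.2.2, one_mul]⟩
      inv_mem' := fun {a} ha => ⟨Q.inv_mem ha.1, fun x hx => ((show Commute a x from ha.2.1 x hx).inv_left).eq,
        by rw [inv_pow, ha.2.2, inv_one]⟩ }
  have hZQ : Z ≤ Q := fun v hv => hv.1
  have hNZ : Subgroup.normalizer (Q : Set X) ≤ Subgroup.normalizer (Z : Set X) := fun g hg =>
    Subgroup.mem_normalizer_fintype fun v hv => ⟨mem_conj_normalizer hg hv.1, fun x hx => by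
      have h1 := hv.2.1 (g⁻¹ * x * g) (mem_conj_normalizer' hg hx)
      calc g * v * g⁻¹ * x = g * (v * (g⁻¹ * x * g)) * g⁻¹ := by group
        _ = g * (g⁻¹ * x * g * v) * g⁻¹ := by rw [h1]
        _ = x * (g * v * g⁻¹) := by group,
      by rw [conj_pow, hv.2.2]; group⟩
  have hderZ : ∀ x ∈ Q, ∀ y ∈ Q, ⁅x, y⁆ ∈ Z := by
    intro x hx y hy
    refine ⟨hFQ (hder x hx y hy), fun g hg => hFc _ (hder x hx y hy) g hg, ?_⟩
    rw [← pow_commutator_of_commute (hFc _ (hder x hx y hy) x hx).symm,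
      commutatorElement_eq_one_iff_mul_comm.mpr (hpow x hx y hy)]
  have hab : ∀ x ∈ Z, ∀ y ∈ Z, x * y = y * x := fun x hx y hy => hx.2.1 y hy.1
  obtain ⟨z₁, hz₁, hz₁1⟩ : ∃ z ∈ Z, z ≠ 1 := by
    haveI : Nontrivial Q := (Subgroup.nontrivial_iff_ne_bot Q).mpr hQb
    haveI : Nontrivial (Subgroup.center Q) := hQ.center_nontrivial
    have hd : s ∣ Nat.card (Subgroup.center Q) := by
      obtain ⟨i, hi⟩ := (hQ.to_subgroup (Subgroup.center Q)).exists_card_eq
      rw [hi]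
      refine dvd_pow_self s fun e => ?_
      rw [e, pow_zero] at hi
      exact (Finite.one_lt_card (α := Subgroup.center Q)).ne' hi
    obtain ⟨v, hv⟩ := exists_prime_orderOf_dvd_card' s hd
    refine ⟨((v : Q) : X), ⟨(v : Q).2, fun x hx =>
      congrArg Subtype.val (Subgroup.mem_center_iff.mp v.2 ⟨x, hx⟩).symm, by
        rw [← hv, ← Subgroup.coe_pow, ← Subgroup.coe_pow, pow_orderOf_eq_one]; rfl⟩, fun e => ?_⟩
    rw [show v = 1 from Subtype.ext (Subtype.ext e), orderOf_one] at hv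
    exact (Fact.out : s.Prime).ne_one hv.symm
  -- the module
  haveI := hV.1
  letI : CommGroup V := { (inferInstance : Group V) with mul_comm := fun u v => IsMulCommutative.is_comm.comm u v }
  letI : MulDistribMulAction X V := MulDistribMulAction.compHom V (MulAut.conjNormal : X →* MulAut V)
  have hsm : ∀ (g : X) (v : V), ((g • v : V) : X) = g * v * g⁻¹ := fun g v => MulAut.conjNormal_apply g v
  have hfixiff : ∀ (g : X) (v : V), g • v = v ↔ g * (v : X) = (v : X) * g := fun g v => by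
    rw [Subtype.ext_iff, hsm, mul_inv_eq_iff_eq_mul]
  have hWA : ∀ w : V, (∀ a ∈ A, a • w = w) → w = 1 := fun w hw => Subtype.ext
    ((Subgroup.eq_bot_iff_forall _).mp hVA w ⟨w.2, Subgroup.mem_centralizer_iff.mpr fun a ha =>
      (hfixiff a w).mp (hw a ha)⟩)
  have hfq : ∀ q ∈ Q, (∀ v : V, q • v = v) → q = 1 := fun q hq h =>
    (Subgroup.eq_bot_iff_forall _).mp hfaith q ⟨hq, Subgroup.mem_centralizer_iff.mpr fun v hv =>
      ((hfixiff q ⟨v, hv⟩).mp (h ⟨v, hv⟩)).symm⟩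
  have hVp : IsPGroup ℓ V := fun v => ⟨1, Subtype.ext (by simpa using hV.2 v v.2)⟩
  have hcopQV : (Nat.card Q).Coprime (Nat.card V) := IsPGroup.coprime_card_of_ne s ℓ hℓs.symm Q V hQ hVp
  have hcopZ : (Nat.card Z).Coprime (Nat.card V) := hcopQV.coprime_dvd_left (Subgroup.card_dvd_of_le hZQ)
  obtain ⟨v₁, hv₁⟩ : ∃ v : V, z₁ • v ≠ v := by
    by_contra h
    push Not at h
    exact hz₁1 (hfq z₁ (hZQ hz₁) h)
  -- a maximal subgroup with common fixed vectors
  let S : Set (Subgroup X) := {K | K ≤ Z ∧ ∃ d ∈ fixKer (W := V) Z K, d ≠ 1}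
  obtain ⟨K, hK⟩ := (Set.toFinite S).exists_maximal ⟨⊥, bot_le, z₁ • v₁ * v₁⁻¹, ⟨fun k hk => by
      rw [Subgroup.mem_bot.mp hk, one_smul], by rw [map_mul, map_inv, avg_smul_self hz₁, mul_inv_cancel]⟩,
    fun h => hv₁ (mul_inv_eq_one.mp h)⟩
  obtain ⟨hKZ, d₀, hd₀, hd₀1⟩ := hK.1
  have hZn : ∀ L : Subgroup X, L ≤ Z → Q ≤ Subgroup.normalizer (L : Set X) := fun L hL z hz =>
    Subgroup.mem_normalizer_fintype fun l hl => by rw [← (hL hl).2.1 z hz, mul_inv_cancel_right]; exact hl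
  have hgen : ∀ z ∈ Z, z ∉ K → Z ≤ K ⊔ Subgroup.zpowers z := by
    intro z hz hzK y hy
    by_contra hyL
    set A' := Subgroup.zpowers z ⊔ Subgroup.zpowers y with hA'
    have hA'Z : A' ≤ Z := sup_le (Subgroup.zpowers_le.mpr hz) (Subgroup.zpowers_le.mpr hy)
    haveI : IsMulCommutative A' := ⟨⟨fun u v => Subtype.ext (hab _ (hA'Z u.2) _ (hA'Z v.2))⟩⟩
    have hA'K : ∀ w ∈ A', w ∈ K → w = 1 := by
      intro w hw hwK
      have hw' : w ∈ ((Subgroup.zpowers z ⊔ Subgroup.zpowers y : Subgroup X) : Set X) := hw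
      rw [Subgroup.coe_mul_of_right_le_normalizer_left _ _ (Subgroup.zpowers_le.mpr
        ((hZn _ (Subgroup.zpowers_le.mpr hz)) (hZQ hy)))] at hw'
      obtain ⟨u, hu, v, hv, rfl⟩ := hw'
      obtain ⟨i, rfl⟩ := Subgroup.mem_zpowers_iff.mp hu
      obtain ⟨j, rfl⟩ := Subgroup.mem_zpowers_iff.mp hv
      simp only at hwK ⊢
      have hyj : y ^ j ∈ K ⊔ Subgroup.zpowers z := by
        have h := Subgroup.mul_mem _ (Subgroup.mem_sup_right (S := K) (Subgroup.inv_mem _ hu))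
          (Subgroup.mem_sup_left (T := Subgroup.zpowers z) hwK)
        rwa [inv_mul_cancel_left] at h
      have hy1 : y ^ j = 1 := (mem_of_pow_mem hy.2.2 _ hyj).resolve_right hyL
      rw [hy1, mul_one] at hwK ⊢
      exact (mem_of_pow_mem hz.2.2 _ hwK).resolve_right hzK
    have hz1 : z ≠ 1 := fun e => hzK (e ▸ K.one_mem)
    have hnc : ¬ IsCyclic A' := by
      intro hc
      obtain ⟨g, hg⟩ := hc.exists_generator
      have hcard : Nat.card A' ∣ s := by
        rw [← orderOf_eq_card_of_forall_mem_zpowers hg]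
        exact orderOf_dvd_of_pow_eq_one (Subtype.ext (by simpa using (hA'Z g.2).2.2))
      refine hyL ((le_sup_right : Subgroup.zpowers z ≤ _) ?_)
      rw [Subgroup.eq_of_le_of_card_ge (le_sup_left : Subgroup.zpowers z ≤ A') (by
        rw [Nat.card_zpowers, orderOf_eq_prime hz.2.2 hz1]
        exact Nat.le_of_dvd (Fact.out : s.Prime).pos hcard)]
      exact Subgroup.mem_sup_right (Subgroup.mem_zpowers y)
    set Dx : Subgroup X := (fixKer (W := V) Z K).map V.subtype with hDx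
    haveI : IsMulCommutative Dx := ⟨⟨by
      rintro ⟨_, u, hu, rfl⟩ ⟨_, v, hv, rfl⟩
      exact Subtype.ext (show (u : X) * v = v * u from congrArg Subtype.val (mul_comm u v))⟩⟩
    have hDb : Dx ≠ ⊥ := fun e => hd₀1 (Subtype.ext ((Subgroup.eq_bot_iff_forall _).mp e _ ⟨d₀, hd₀, rfl⟩))
    have hAD : A' ≤ Subgroup.normalizer (Dx : Set X) := fun g hg => Subgroup.mem_normalizer_fintype (by
      rintro _ ⟨u, hu, rfl⟩
      exact ⟨g • u, smul_mem_fixKer (Subgroup.le_normalizer (hA'Z hg)) (hZn K hKZ (hZQ (hA'Z hg))) hu, hsm g u⟩)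
    obtain ⟨w, hw, hw1, hwD⟩ := exists_centralizer_ne_bot A' Dx hnc hDb hAD
    obtain ⟨_, ⟨⟨d, hd, rfl⟩, hdc⟩, hd1⟩ := (Subgroup.bot_or_exists_ne_one _).resolve_left hwD
    refine hw1 (hA'K w hw ?_)
    have hmem : K ⊔ Subgroup.zpowers w ∈ S := by
      refine ⟨sup_le hKZ (Subgroup.zpowers_le.mpr (hA'Z hw)), d, ⟨fun k hk => ?_, hd.2⟩, fun e => hd1 ?_⟩
      · exact (sup_le (fun k hk => hd.1 k hk) (Subgroup.zpowers_le.mpr
          (show w ∈ MulAction.stabilizer X d from (hfixiff w d).mpr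
            (Subgroup.mem_centralizer_singleton_iff.mp hdc).symm)) :
          K ⊔ Subgroup.zpowers w ≤ MulAction.stabilizer X d) hk
      · rw [e]; rfl
    exact hK.2 hmem le_sup_left (Subgroup.mem_sup_right (Subgroup.mem_zpowers w))
  obtain ⟨z₀, hz₀, hz₀K⟩ : ∃ z ∈ Z, z ∉ K := by
    by_contra h
    push Not at h
    exact hd₀1 (eq_one_of_fixed hcopZ (fun z hz => hd₀.1 z (h z hz)) hd₀.2)
  -- operators for the translates
  have hAZ : A ≤ Subgroup.normalizer (Z : Set X) := hAQ.trans hNZ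
  have hTZ : T ≤ Subgroup.normalizer (Z : Set X) := hTQ.trans hNZ
  have hop : ∀ t ∈ T, ∃ a ∈ A, a ≠ 1 ∧ ∀ x ∈ Z, t⁻¹ * a * t * x * (t⁻¹ * a * t)⁻¹ * x⁻¹ ∈ K := by
    intro t ht
    set K' := K.map (MulAut.conj t).toMonoidHom with hK'
    have hK'Z : K' ≤ Z := by
      rintro _ ⟨k, hk, rfl⟩
      exact mem_conj_normalizer (hTZ ht) (hKZ hk)
    obtain ⟨a, ha, ha1, -, hac, -⟩ := exists_operator (W := V) hA hAZ hab hK'Z hcopZ
      (hcAQ.coprime_dvd_right (Subgroup.card_dvd_of_le hZQ)) (le_bot_iff.mp (hQA ▸ inf_le_inf_right _ hZQ)) hWA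
      (fun z hz hzK' y hy => by
        have hz' := mem_conj_normalizer' (hTZ ht) hz
        have hy' := hgen _ hz' (fun h => hzK' ⟨_, h, by simp [mul_assoc]⟩) (mem_conj_normalizer' (hTZ ht) hy)
        have h := Subgroup.mem_map_of_mem (MulAut.conj t).toMonoidHom hy'
        rw [Subgroup.map_sup, ← hK', MonoidHom.map_zpowers] at h
        simpa [mul_assoc] using h)
      ⟨t • d₀, ⟨by
        rintro _ ⟨k, hk, rfl⟩
        show (t * k * t⁻¹) • t • d₀ = t • d₀
        rw [smul_smul, inv_mul_cancel_right, mul_smul, hd₀.1 k hk],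
        by rw [avg_smul (hTZ ht), hd₀.2, smul_one]⟩,
        fun e => hd₀1 (MulAction.injective t (e.trans (smul_one t).symm))⟩
    refine ⟨a, ha, ha1, fun x hx => ?_⟩
    obtain ⟨k, hk, hkx⟩ := hac _ (mem_conj_normalizer (hTZ ht) hx)
    have hkx' : t * k * t⁻¹ = a * (t * x * t⁻¹) * a⁻¹ * (t * x * t⁻¹)⁻¹ := hkx
    rw [SetLike.mem_coe, show k = t⁻¹ * (a * (t * x * t⁻¹) * a⁻¹ * (t * x * t⁻¹)⁻¹) * t by rw [← hkx']; group] at hk
    convert hk using 1
    group
  have hcopTZ : (Nat.card T).Coprime (Nat.card Z) := hcopTQ.coprime_dvd_right (Subgroup.card_dvd_of_le hZQ)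
  have hZT : ∀ t ∈ T, ∀ x ∈ Z, t * x * t⁻¹ * x⁻¹ ∈ K :=
    le_mod (Z := ⊥) hA hAZ (by rw [Subgroup.normalizer_eq_top]; exact le_top) hTZ
      (by rw [Subgroup.normalizer_eq_top]; exact le_top) (by rw [Subgroup.normalizer_eq_top]; exact le_top) hAT
      bot_le bot_le (fun x hx y hy => Subgroup.mem_bot.mpr (commutatorElement_eq_one_iff_mul_comm.mpr (hab x hx y hy)))
      hcopTZ hcAT (hcAQ.coprime_dvd_right (Subgroup.card_dvd_of_le hZQ))
      (le_bot_iff.mp (hQA ▸ inf_le_inf_right _ hZQ)) hTA hop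
  have hTK : T ≤ Subgroup.normalizer (K : Set X) := fun t ht => Subgroup.mem_normalizer_fintype fun k hk => by
    have := K.mul_mem (hZT t ht k (hKZ hk)) hk
    rwa [inv_mul_cancel_right] at this
  obtain ⟨a, ha, ha1, haK, hac, hCa⟩ := exists_operator (W := V) hA hAZ hab hKZ hcopZ
    (hcAQ.coprime_dvd_right (Subgroup.card_dvd_of_le hZQ)) (le_bot_iff.mp (hQA ▸ inf_le_inf_right _ hZQ)) hWA
    hgen ⟨d₀, hd₀, hd₀1⟩
  -- the kernel on the fixed vectors
  set D : Subgroup X := (fixKer (W := V) Z K).map V.subtype with hD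
  have hDn : ∀ g : X, g ∈ Subgroup.normalizer (Z : Set X) → g ∈ Subgroup.normalizer (K : Set X) →
      g ∈ Subgroup.normalizer (D : Set X) := fun g hgZ hgK => Subgroup.mem_normalizer_fintype (by
    rintro _ ⟨u, hu, rfl⟩
    exact ⟨g • u, smul_mem_fixKer hgZ hgK hu, hsm g u⟩)
  set N := Q ⊓ Subgroup.centralizer (D : Set X) with hN
  have hNn : ∀ g : X, g ∈ Subgroup.normalizer (Q : Set X) → g ∈ Subgroup.normalizer (D : Set X) →
      g ∈ Subgroup.normalizer (N : Set X) := fun g hgQ hgD => Subgroup.mem_normalizer_fintype fun x hx =>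
    ⟨mem_conj_normalizer hgQ hx.1, Subgroup.mem_centralizer_iff.mpr fun d hd => by
      have h := Subgroup.mem_centralizer_iff.mp hx.2 _ (mem_conj_normalizer' hgD hd)
      calc d * (g * x * g⁻¹) = g * ((g⁻¹ * d * g) * x) * g⁻¹ := by group
        _ = g * (x * (g⁻¹ * d * g)) * g⁻¹ := by rw [h]
        _ = _ := by group⟩
  have hQD : Q ≤ Subgroup.normalizer (D : Set X) := fun q hq =>
    hDn q (hNZ (Subgroup.le_normalizer hq)) (hZn K hKZ hq)
  have hQN : Q ≤ Subgroup.normalizer (N : Set X) := fun q hq => hNn q (Subgroup.le_normalizer hq) (hQD hq)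
  have hTD : T ≤ Subgroup.normalizer (D : Set X) := fun t ht => hDn t (hTZ ht) (hTK ht)
  have hTN : T ≤ Subgroup.normalizer (N : Set X) := fun t ht => hNn t (hTQ ht) (hTD ht)
  have haD : a ∈ Subgroup.normalizer (D : Set X) := hDn a (hAZ ha) haK
  have haN : a ∈ Subgroup.normalizer (N : Set X) := hNn a (hAQ ha) haD
  have hKN : K ≤ N := fun k hk => ⟨hZQ (hKZ hk), Subgroup.mem_centralizer_iff.mpr (by
    rintro _ ⟨u, hu, rfl⟩
    exact ((hfixiff k u).mp (hu.1 k hk)).symm)⟩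
  have hNZK : ∀ z ∈ Z, z ∈ N → z ∈ K := by
    intro z hz hzN
    by_contra hzK
    have hzfix : z • d₀ = d₀ :=
      (hfixiff z d₀).mpr (Subgroup.mem_centralizer_iff.mp hzN.2 _ ⟨d₀, hd₀, rfl⟩).symm
    refine hd₀1 (eq_one_of_fixed hcopZ (fun y hy => ?_) hd₀.2)
    exact (sup_le (fun k hk => hd₀.1 k hk) (Subgroup.zpowers_le.mpr hzfix) :
      K ⊔ Subgroup.zpowers z ≤ MulAction.stabilizer X d₀) (hgen z hz hzK hy)
  have hrel : N.relIndex Z = s := by
    have e : N ⊓ Z = K := le_antisymm (fun x hx => hNZK x hx.2 hx.1) (le_inf hKN hKZ)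
    rw [← Subgroup.inf_relIndex_right, e]
    have hz1 : z₀ ≠ 1 := fun h => hz₀K (h ▸ K.one_mem)
    have hsup : Subgroup.zpowers z₀ ⊔ K = Z := le_antisymm (sup_le (Subgroup.zpowers_le.mpr hz₀) hKZ)
      (sup_comm K _ ▸ hgen z₀ hz₀ hz₀K)
    have hinf : Subgroup.zpowers z₀ ⊓ K = ⊥ := by
      rw [Subgroup.eq_bot_iff_forall]
      rintro w ⟨hw, hwK⟩
      obtain ⟨i, rfl⟩ := Subgroup.mem_zpowers_iff.mp hw
      exact (mem_of_pow_mem hz₀.2.2 _ hwK).resolve_right hz₀K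
    have h1 := card_sup_mul_card_inf (H := Subgroup.zpowers z₀) (N := K)
      (Subgroup.zpowers_le.mpr (hZn K hKZ (hZQ hz₀)))
    rw [hsup, hinf, Subgroup.card_bot, mul_one, Nat.card_zpowers, orderOf_eq_prime hz₀.2.2 hz1,
      ← card_mul_relIndex hKZ, mul_comm s] at h1
    exact Nat.eq_of_mul_eq_mul_left Nat.card_pos h1
  have hDel : Cfsg.IsElementaryAbelian ℓ D := by
    refine ⟨⟨⟨?_⟩⟩, ?_⟩
    · rintro ⟨_, u, hu, rfl⟩ ⟨_, v, hv, rfl⟩
      exact Subtype.ext (show (u : X) * v = v * u from congrArg Subtype.val (mul_comm u v))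
    · rintro _ ⟨u, -, rfl⟩
      exact hV.2 _ u.2
  have := Fact.mk (hA.prime_orderOf ha ha1)
  have hdA : orderOf a ∣ Nat.card A := Subgroup.orderOf_dvd_natCard A ha
  have hcontra : ∀ (u : ℕ) [Fact u.Prime] (H : Subgroup X), IsPGroup u H → H ≠ ⊥ →
      (Nat.card A).Coprime (Nat.card H) → orderOf a ≠ u := by
    intro u _ H hH hHb hc e
    obtain ⟨i, hi⟩ := hH.exists_card_eq
    have hi0 : i ≠ 0 := fun h => hHb (Subgroup.card_eq_one.mp (by rw [hi, h, pow_zero]))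
    exact (Fact.out : u.Prime).ne_one (Nat.eq_one_of_dvd_coprimes hc (e ▸ hdA) (hi ▸ dvd_pow_self u hi0))
  have hQa := centralize_mod (ℓ := ℓ) (s := s) (r := r) (m := orderOf a) D Q Z T N a hDel hℓs
    (fun e => hcontra ℓ V hVp (fun h => hd₀1 (Subtype.ext ((Subgroup.eq_bot_iff_forall V).mp h d₀ d₀.2))) hcopAV e.symm)
    (hcontra s Q hQ hQb hcAQ) hrs (hcontra r T hT hTb hcAT) rfl haD haN (hAQ ha) (hAT ha) hQD hQN hTD hTN hTQ hTZ
    hQ hT hZQ inf_le_left
    (fun q hq h => ⟨hq, Subgroup.mem_centralizer_iff.mpr fun d hd => (h d hd).symm⟩)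
    (fun n hn d hd => (Subgroup.mem_centralizer_iff.mp hn.2 d hd).symm)
    (by rintro _ ⟨u, hu, rfl⟩ h; rw [hCa u hu ((hfixiff a u).mpr h)]; rfl)
    (fun z hz g hg => (hz.2.1 g hg).symm) hrel
    (fun z hz => hKN (hac z hz)) (fun g hg t ht => hderZ t ht g hg) hpow hQT hTT
  have hNZ' : N ⊔ Z ≤ Q := sup_le inf_le_left hZQ
  have hmod := le_mod (Z := Z) (K := N ⊔ Z) hA hAQ hAZ hTQ hTZ (hZn Z le_rfl) hAT hZQ le_sup_right hderZ hcopTQ hcAT
    hcAQ hQA hTA (fun t ht => ⟨a, ha, ha1, fun x hx => by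
      refine Subgroup.mem_sup_left ?_
      have h := mem_conj_normalizer' (hTN ht) (hQa _ (mem_conj_normalizer (hTQ ht) hx))
      convert h using 1
      group⟩)
  have hQle : Q ≤ N ⊔ Z := by
    conv_lhs => rw [← hQT]
    rw [Subgroup.commutator_le]
    intro q hq t ht
    have h := (N ⊔ Z).inv_mem (hmod t ht q hq)
    rwa [← commutatorElement_def, commutatorElement_inv] at h
  have hQleN : Q ≤ N := by
    conv_lhs => rw [← hQT]
    rw [Subgroup.commutator_le]
    intro q hq t ht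
    have hq' : q ∈ ((N ⊔ Z : Subgroup X) : Set X) := hQle hq
    rw [Subgroup.coe_mul_of_right_le_normalizer_left N Z (hZQ.trans hQN)] at hq'
    obtain ⟨x, hx, z, hz, rfl⟩ := hq'
    rw [show ⁅x * z, t⁆ = x * ⁅z, t⁆ * x⁻¹ * ⁅x, t⁆ by simp only [commutatorElement_def]; group]
    refine N.mul_mem (mem_conj_normalizer (Subgroup.le_normalizer hx) ?_) ?_
    · have h := N.inv_mem (hKN (hZT t ht z hz))
      rwa [← commutatorElement_def, commutatorElement_inv] at h
    · exact commutator_le_left_of_le_normalizer hTN (Subgroup.commutator_mem_commutator hx ht)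
  exact hz₀K (hNZK z₀ hz₀ (hQleN (hZQ hz₀)))

end Cfsg.Agent.Grp.PQ
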