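import Mathlib
import Cfsg.Agent.Lib.Grp.PQ.Core

/-!
Removing faithfulness and exponent from the commuting criterion.
-/

set_option autoImplicit false
set_option linter.unusedSectionVars false
set_option linter.style.haveILetI false

namespace Cfsg.Agent.Grp.PQ

open scoped Pointwise commutatorElement

universe u

variable {ℓ s r : ℕ} [Fact ℓ.Prime] [Fact s.Prime] [Fact r.Prime]

/-- The commutator of the two groups centralizes an elementary module. -/
theorem commutator_le_centralizer_elementary {X : Type*} [Group X] [Finite X] (A V Q T : Subgroup X) [V.Normal]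
    (hA : IsOp A) (hV : Cfsg.IsElementaryAbelian ℓ V) (hℓs : ℓ ≠ s) (hrs : r ≠ s)
    (hVA : V ⊓ Subgroup.centralizer (A : Set X) = ⊥) (hcopAV : (Nat.card A).Coprime (Nat.card V))
    (hQ : IsPGroup s Q) (hT : IsPGroup r T) (hAQ : A ≤ Subgroup.normalizer (Q : Set X))
    (hAT : A ≤ Subgroup.normalizer (T : Set X)) (hTQ : T ≤ Subgroup.normalizer (Q : Set X))
    (hcAQ : (Nat.card A).Coprime (Nat.card Q)) (hcAT : (Nat.card A).Coprime (Nat.card T))
    (hQA : Q ⊓ Subgroup.centralizer (A : Set X) = ⊥) (hTA : T ⊓ Subgroup.centralizer (A : Set X) = ⊥) :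
    ⁅Q, T⁆ ≤ Subgroup.centralizer (V : Set X) := by
  classical
  set K := Q ⊓ Subgroup.centralizer (V : Set X) with hK
  have hKn : ∀ {H : Subgroup X}, H ≤ Subgroup.normalizer (Q : Set X) → H ≤ Subgroup.normalizer (K : Set X) :=
    fun h => le_normalizer_inf' h Subgroup.le_normalizer_of_normal
  have hVp : IsPGroup ℓ V := fun v => ⟨1, Subtype.ext (by simpa using hV.2 v v.2)⟩
  have hcopQV : (Nat.card Q).Coprime (Nat.card V) := IsPGroup.coprime_card_of_ne s ℓ hℓs.symm Q V hQ hVp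
  set Y := Subgroup.normalizer (K : Set X) with hY
  have hAY : A ≤ Y := hKn hAQ
  have hQY : Q ≤ Y := hKn Subgroup.le_normalizer
  have hTY : T ≤ Y := hKn hTQ
  have hVY : V ≤ Y := fun v hv => Subgroup.mem_normalizer_fintype fun k hk => by
    rw [Subgroup.mem_centralizer_iff.mp hk.2 v hv, mul_inv_cancel_right]; exact hk
  set K' := K.subgroupOf Y with hK'
  haveI : K'.Normal := Subgroup.normal_subgroupOf_of_le_normalizer le_rfl
  haveI : (V.subgroupOf Y).Normal := inferInstance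
  set π := QuotientGroup.mk' K' with hπ
  have hπs : Function.Surjective π := QuotientGroup.mk'_surjective K'
  let im : Subgroup X → Subgroup (↥Y ⧸ K') := fun H => (H.subgroupOf Y).map π
  have hcY : ∀ H : Subgroup X, H ≤ Y → Nat.card (H.subgroupOf Y) = Nat.card H := fun H hH =>
    Nat.card_congr (Subgroup.subgroupOfEquivOfLe hH).toEquiv
  have hker1 : ∀ y : Y, π y = 1 ↔ (y : X) ∈ K := fun y => QuotientGroup.eq_one_iff y
  haveI : (im V).Normal := Subgroup.Normal.map inferInstance π hπs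
  have hnorm : ∀ {H G : Subgroup X}, H ≤ Subgroup.normalizer (G : Set X) →
      im H ≤ Subgroup.normalizer ((im G : Subgroup (↥Y ⧸ K')) : Set (↥Y ⧸ K')) := by
    rintro H G h _ ⟨g, hg, rfl⟩
    exact Subgroup.le_normalizer_map π ⟨g, Subgroup.le_normalizer_comap Y.subtype (show g ∈ _ from h hg), rfl⟩
  have hAKbot : ∀ y ∈ A.subgroupOf Y, π y = 1 → y = 1 := fun y hy h => Subtype.ext
    ((inf_eq_bot_of_coprime hcAQ).le ⟨hy, ((hker1 y).mp h).1⟩)
  have hfixm : ∀ {H : Subgroup X}, H ≤ Y → A ≤ Subgroup.normalizer (H : Set X) →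
      (Nat.card A).Coprime (Nat.card H) → H ⊓ Subgroup.centralizer (A : Set X) = ⊥ →
      im H ⊓ Subgroup.centralizer ((im A : Subgroup (↥Y ⧸ K')) : Set (↥Y ⧸ K')) = ⊥ := by
    intro H hH hAH hc hfx
    refine fixed_map (N := K') (hA.subgroupOf hAY).solv
      (fun a ha => Subgroup.le_normalizer_comap Y.subtype (show a ∈ _ from hAH ha))
      (by rw [hcY H hH, hcY A hAY]; exact hc) ?_
    rw [Subgroup.eq_bot_iff_forall]
    rintro ⟨x, hxY⟩ ⟨hx, hxc⟩
    refine Subtype.ext ((Subgroup.eq_bot_iff_forall _).mp hfx x ⟨hx, Subgroup.mem_centralizer_iff.mpr fun a ha => ?_⟩)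
    exact congrArg Subtype.val (Subgroup.mem_centralizer_iff.mp hxc (⟨a, hAY ha⟩ : Y) ha)
  have hcm : ∀ {H : Subgroup X}, H ≤ Y → (Nat.card A).Coprime (Nat.card H) →
      (Nat.card (im A)).Coprime (Nat.card (im H)) := fun {H} hH hc =>
    (hc.coprime_dvd_left ((hcY A hAY) ▸ Subgroup.card_map_dvd _ π)).coprime_dvd_right
      ((hcY H hH) ▸ Subgroup.card_map_dvd _ π)
  have hel : Cfsg.IsElementaryAbelian ℓ (im V) := by
    haveI := hV.1
    refine ⟨⟨⟨?_⟩⟩, ?_⟩
    · rintro ⟨_, x, hx, rfl⟩ ⟨_, y, hy, rfl⟩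
      refine Subtype.ext ?_
      show π x * π y = π y * π x
      rw [← map_mul, ← map_mul, show x * y = y * x from Subtype.ext
        (congrArg Subtype.val (hV.1.is_comm.comm ⟨(x : X), hx⟩ ⟨(y : X), hy⟩) : _)]
    · rintro _ ⟨x, hx, rfl⟩
      rw [← map_pow, show x ^ ℓ = 1 from Subtype.ext (by simpa using hV.2 _ hx), map_one]
  have hfaith : im Q ⊓ Subgroup.centralizer ((im V : Subgroup (↥Y ⧸ K')) : Set (↥Y ⧸ K')) = ⊥ := by
    rw [Subgroup.eq_bot_iff_forall]
    rintro _ ⟨⟨q, hq, rfl⟩, hc⟩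
    refine (hker1 q).mpr ⟨hq, Subgroup.mem_centralizer_iff.mpr fun v hv => ?_⟩
    have h1 : π ⁅q, (⟨v, hVY hv⟩ : Y)⁆ = 1 := by
      rw [map_commutatorElement, commutatorElement_eq_one_iff_mul_comm]
      exact (Subgroup.mem_centralizer_iff.mp hc _ ⟨_, hv, rfl⟩).symm
    have h2 : ⁅(q : X), v⁆ ∈ K := (hker1 _).mp h1
    have hV' : ⁅(q : X), v⁆ ∈ V := V.mul_mem (‹V.Normal›.conj_mem v hv _) (V.inv_mem hv)
    exact (commutatorElement_eq_one_iff_mul_comm.mp ((inf_eq_bot_of_coprime hcopQV).le ⟨h2.1, hV'⟩)).symm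
  have h := core (ℓ := ℓ) (s := s) (r := r) (im A) (im V) ((hA.subgroupOf hAY).map π hAKbot) hel hℓs hrs
    (hfixm hVY Subgroup.le_normalizer_of_normal hcopAV hVA) (hcm hVY hcopAV) _ (im Q) (im T) rfl
    (hQ.comap_subtype.map π) (hT.comap_subtype.map π) (hnorm hAQ) (hnorm hAT) (hnorm hTQ) (hcm hQY hcAQ)
    (hcm hTY hcAT) (hfixm hQY hAQ hcAQ hQA) (hfixm hTY hAT hcAT hTA) hfaith
  rw [Subgroup.commutator_le]
  intro q hq t ht
  have h1 : π ⁅(⟨q, hQY hq⟩ : Y), ⟨t, hTY ht⟩⁆ = 1 := by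
    rw [map_commutatorElement]
    refine (Subgroup.eq_bot_iff_forall _).mp h _ (Subgroup.commutator_mem_commutator ⟨_, hq, rfl⟩ ⟨_, ht, rfl⟩)
  exact ((hker1 _).mp h1).2

/-- The commutator of the two groups centralizes an invariant `ℓ`-group. -/
theorem commutator_le_centralizer (hℓs : ℓ ≠ s) (hrs : r ≠ s) :
    ∀ (k : ℕ) (X : Type u) [Group X] [Finite X] (A V Q T : Subgroup X), Nat.card V = k → V.Normal → IsOp A →
      IsPGroup ℓ V → V ⊓ Subgroup.centralizer (A : Set X) = ⊥ → (Nat.card A).Coprime (Nat.card V) →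
      IsPGroup s Q → IsPGroup r T → A ≤ Subgroup.normalizer (Q : Set X) → A ≤ Subgroup.normalizer (T : Set X) →
      T ≤ Subgroup.normalizer (Q : Set X) → (Nat.card A).Coprime (Nat.card Q) →
      (Nat.card A).Coprime (Nat.card T) → Q ⊓ Subgroup.centralizer (A : Set X) = ⊥ →
      T ⊓ Subgroup.centralizer (A : Set X) = ⊥ → ⁅Q, T⁆ ≤ Subgroup.centralizer (V : Set X) := by
  intro k
  induction k using Nat.strong_induction_on with
  | _ k ih =>
  intro X _ _ A V Q T hk hVn hA hV hVA hcAV hQ hT hAQ hAT hTQ hcAQ hcAT hQA hTA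
  classical
  haveI := hVn
  by_cases hVb : V = ⊥
  · intro x _
    rw [Subgroup.mem_centralizer_iff, hVb]
    intro v hv
    rw [Subgroup.coe_bot, Set.mem_singleton_iff] at hv
    simp [hv]
  let V0 : Subgroup X :=
    { carrier := {v | v ∈ V ∧ (∀ x ∈ V, v * x = x * v) ∧ v ^ ℓ = 1}
      one_mem' := ⟨V.one_mem, fun x _ => by simp, one_pow ℓ⟩
      mul_mem' := fun {a b} ha hb => ⟨V.mul_mem ha.1 hb.1, fun x hx => by
          rw [mul_assoc, hb.2.1 x hx, ← mul_assoc, ha.2.1 x hx, mul_assoc],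
        by rw [(show Commute a b from ha.2.1 b hb.1).mul_pow, ha.2.2, hb.2.2, one_mul]⟩
      inv_mem' := fun {a} ha => ⟨V.inv_mem ha.1, fun x hx => ((show Commute a x from ha.2.1 x hx).inv_left).eq,
        by rw [inv_pow, ha.2.2, inv_one]⟩ }
  have hV0V : V0 ≤ V := fun v hv => hv.1
  haveI hV0n : V0.Normal := ⟨fun v hv g => ⟨hVn.conj_mem v hv.1 g, fun x hx => by
      have h1 := hv.2.1 (g⁻¹ * x * g) (by simpa using hVn.conj_mem x hx g⁻¹)
      calc g * v * g⁻¹ * x = g * (v * (g⁻¹ * x * g)) * g⁻¹ := by group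
        _ = g * (g⁻¹ * x * g * v) * g⁻¹ := by rw [h1]
        _ = x * (g * v * g⁻¹) := by group,
    by rw [conj_pow, hv.2.2]; group⟩⟩
  have hV0el : Cfsg.IsElementaryAbelian ℓ V0 := ⟨⟨⟨fun a b => Subtype.ext (a.2.2.1 b b.2.1)⟩⟩, fun v hv => hv.2.2⟩
  have hV0ne : V0 ≠ ⊥ := by
    haveI : Nontrivial V := (Subgroup.nontrivial_iff_ne_bot V).mpr hVb
    haveI : Nontrivial (Subgroup.center V) := hV.center_nontrivial
    have hd : ℓ ∣ Nat.card (Subgroup.center V) := by
      obtain ⟨i, hi⟩ := (hV.to_subgroup (Subgroup.center V)).exists_card_eq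
      rw [hi]
      refine dvd_pow_self ℓ fun e => ?_
      rw [e, pow_zero] at hi
      exact (Finite.one_lt_card (α := Subgroup.center V)).ne' hi
    obtain ⟨v, hv⟩ := exists_prime_orderOf_dvd_card' ℓ hd
    intro e
    have hmem : ((v : V) : X) ∈ V0 := ⟨(v : V).2, fun x hx =>
      congrArg Subtype.val (Subgroup.mem_center_iff.mp v.2 ⟨x, hx⟩).symm, by
        rw [← hv, ← Subgroup.coe_pow, ← Subgroup.coe_pow, pow_orderOf_eq_one]; rfl⟩
    rw [e, Subgroup.mem_bot] at hmem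
    rw [show v = 1 from Subtype.ext (Subtype.ext hmem), orderOf_one] at hv
    exact (Fact.out : ℓ.Prime).ne_one hv.symm
  have hcAV0 : (Nat.card A).Coprime (Nat.card V0) := hcAV.coprime_dvd_right (Subgroup.card_dvd_of_le hV0V)
  have h1 : ⁅Q, T⁆ ≤ Subgroup.centralizer (V0 : Set X) :=
    commutator_le_centralizer_elementary (ℓ := ℓ) (s := s) (r := r) A V0 Q T hA hV0el hℓs hrs
      (le_bot_iff.mp (hVA ▸ inf_le_inf_right _ hV0V)) hcAV0 hQ hT hAQ hAT hTQ hcAQ hcAT hQA hTA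
  set π := QuotientGroup.mk' V0 with hπ
  have hlt : Nat.card (V.map π) < k := by
    rw [← hk]
    refine lt_of_le_of_ne (Nat.le_of_dvd Nat.card_pos (Subgroup.card_map_dvd V π)) fun e => hV0ne ?_
    have hinj : Set.InjOn π (V : Set X) := by
      have h2 : Function.Bijective (π.subgroupMap V) :=
        (Nat.bijective_iff_surjective_and_card _).mpr ⟨π.subgroupMap_surjective V, e.symm⟩
      intro a ha b hb hab
      exact congrArg Subtype.val (h2.1 (a₁ := ⟨a, ha⟩) (a₂ := ⟨b, hb⟩) (Subtype.ext hab))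
    rw [Subgroup.eq_bot_iff_forall]
    intro v hv
    refine hinj (hV0V hv) V.one_mem ?_
    rw [map_one]
    exact (QuotientGroup.eq_one_iff v).mpr hv
  have hcm : ∀ H : Subgroup X, (Nat.card A).Coprime (Nat.card H) →
      (Nat.card (A.map π)).Coprime (Nat.card (H.map π)) := fun H hc =>
    (hc.coprime_dvd_left (Subgroup.card_map_dvd A π)).coprime_dvd_right (Subgroup.card_map_dvd H π)
  have h2 := ih _ hlt (X ⧸ V0) (A.map π) (V.map π) (Q.map π) (T.map π) rfl
    (hVn.map π (QuotientGroup.mk'_surjective V0))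
    (hA.map π fun a ha h => (inf_eq_bot_of_coprime hcAV0).le ⟨ha, (QuotientGroup.eq_one_iff a).mp h⟩)
    (hV.map π) (fixed_map hA.solv Subgroup.le_normalizer_of_normal hcAV hVA) (hcm V hcAV) (hQ.map π) (hT.map π)
    ((Subgroup.map_mono hAQ).trans (Subgroup.le_normalizer_map π))
    ((Subgroup.map_mono hAT).trans (Subgroup.le_normalizer_map π))
    ((Subgroup.map_mono hTQ).trans (Subgroup.le_normalizer_map π)) (hcm Q hcAQ) (hcm T hcAT)
    (fixed_map hA.solv hAQ hcAQ hQA) (fixed_map hA.solv hAT hcAT hTA)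
  rw [← Subgroup.map_commutator] at h2
  have hQA' : ⁅V, ⁅Q, T⁆⁆ ≤ V0 := Subgroup.commutator_le.mpr fun x hx a ha => by
    rw [← QuotientGroup.eq_one_iff, ← QuotientGroup.mk'_apply, map_commutatorElement,
      commutatorElement_eq_one_iff_mul_comm]
    exact Subgroup.mem_centralizer_iff.mp (h2 ⟨a, ha, rfl⟩) _ ⟨x, hx, rfl⟩
  have hV0A : ⁅V0, ⁅Q, T⁆⁆ = ⊥ := by
    rw [Subgroup.commutator_comm]
    exact Subgroup.commutator_eq_bot_iff_le_centralizer.mpr h1
  refine le_centralizer_of_series ⁅Q, T⁆ V V0 Subgroup.le_normalizer_of_normal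
    (IsPGroup.coprime_card_of_ne s ℓ hℓs.symm _ V (hQ.to_le (commutator_le_left_of_le_normalizer hTQ)) hV)
    (Or.inr (@IsNilpotent.to_isSolvable _ _ hV.isNilpotent)) hQA' hV0A

end Cfsg.Agent.Grp.PQ
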