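import Mathlib
import Cfsg.Agent.Lib.Grp.FpfWard
import Cfsg.Agent.Lib.Grp.PQ.Module

/-!
A non-abelian fixed-point-free coprime operator group with prime order proper subgroups on a solvable
group forces Fitting height at most two.
-/

namespace Cfsg.Agent.Grp

set_option linter.unusedSectionVars false

open scoped Pointwise commutatorElement
open Subgroup

variable {X : Type*} [Group X]

/-- The quotient by the Fitting subgroup is nilpotent. -/
theorem quotient_fitting_isNilpotent [Finite X] {G A : Subgroup X} [G.Normal]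
    (hG : Group.IsSolvable G) (hA : PQ.IsOp A) (hcop : (Nat.card A).Coprime (Nat.card G))
    (hfpf : G ⊓ Subgroup.centralizer (A : Set X) = ⊥) :
    Group.IsNilpotent (↥G ⧸ Cfsg.fittingSubgroup G) := by
  have hFn : (Cfsg.fittingSubgroup G).Normal := fittingSubgroup_isNormal
  have := hG
  have hAG : A ≤ Subgroup.normalizer (G : Set X) := Subgroup.le_normalizer_of_normal
  have hAsolv : Group.IsSolvable A := hA.solv
  have hcopA : ∀ {Y : Subgroup X}, Y ≤ G → (Nat.card A).Coprime (Nat.card Y) := fun h =>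
    hcop.coprime_dvd_right (Subgroup.card_dvd_of_le h)
  refine isNilpotent_of_centralizes_cores fun q s hq hs hsq hdvd => ?_
  have := Fact.mk hq
  have := Fact.mk hs
  set F := Cfsg.fittingSubgroup G
  set π := QuotientGroup.mk' F
  have hπ : Function.Surjective π := QuotientGroup.mk'_surjective F
  set L := (Cfsg.pCore q (↥G ⧸ F)).comap π
  have : L.Characteristic := characteristic_comap_mk _
  set Lx := L.map G.subtype
  have hLxn : Lx.Normal := normal_of_characteristic_map L
  have hLG : Lx ≤ G := Subgroup.map_subtype_le L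
  obtain ⟨Q, hQ, hAQ⟩ := exists_invariant_sylow A Lx Subgroup.le_normalizer_of_normal (hcopA hLG)
    (Or.inl hAsolv) q
  set N := G ⊓ Subgroup.normalizer (Q : Set X)
  have hAN : A ≤ Subgroup.normalizer (N : Set X) :=
    le_normalizer_inf' hAG (hAQ.trans Subgroup.le_normalizer)
  obtain ⟨S, hS, hAS⟩ := exists_invariant_sylow A N hAN (hcopA inf_le_left) (Or.inl hAsolv) s
  have hQG : Q ≤ G := hQ.1.trans hLG
  have hSG : S ≤ G := hS.1.trans inf_le_left
  have hSQ : S ≤ Subgroup.normalizer (Q : Set X) := hS.1.trans inf_le_right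
  obtain ⟨m, hm⟩ := IsPGroup.iff_card.mp hQ.2.1
  obtain ⟨l, hl⟩ := IsPGroup.iff_card.mp hS.2.1
  have hcopSQ : (Nat.card S).Coprime (Nat.card Q) := by
    rw [hl, hm]; exact Nat.Coprime.pow _ _ ((Nat.coprime_primes hs hq).mpr hsq)
  have hSsolv : Group.IsSolvable S := @IsNilpotent.to_isSolvable _ _ hS.2.1.isNilpotent
  set Q1 := ⁅Q, S⁆
  have hQ1Q : Q1 ≤ Q := commutator_le_left_of_le_normalizer hSQ
  have hAQ1 : A ≤ Subgroup.normalizer (Q1 : Set X) := le_normalizer_commutator' hAQ hAS
  have hSQ1 : S ≤ Subgroup.normalizer (Q1 : Set X) := right_le_normalizer_commutator S Q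
  have hQ1G : Q1 ≤ G := hQ1Q.trans hQG
  have hQ1p : IsPGroup q Q1 := hQ.2.1.to_le hQ1Q
  -- `[Q, S]` centralizes the cores for the other primes
  have hcent : ∀ r : ℕ, r.Prime → r ≠ q →
      Q1 ≤ Subgroup.centralizer (((Cfsg.pCore r G).map G.subtype : Subgroup X) : Set X) := by
    intro r hr hrq
    have := Fact.mk hr
    have hVn : ((Cfsg.pCore r G).map G.subtype).Normal := normal_of_characteristic_map _
    have hVG : (Cfsg.pCore r G).map G.subtype ≤ G := Subgroup.map_subtype_le _
    exact PQ.commutator_le_centralizer (ℓ := r) (s := q) (r := s) hrq hsq _ X A _ Q S rfl hVn hA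
      ((pCore_isPGroup (p := r)).map _) (le_bot_iff.mp (hfpf ▸ inf_le_inf_right _ hVG)) (hcopA hVG)
      hQ.2.1 hS.2.1 hAQ hAS hSQ (hcopA hQG) (hcopA hSG) (le_bot_iff.mp (hfpf ▸ inf_le_inf_right _ hQG))
      (le_bot_iff.mp (hfpf ▸ inf_le_inf_right _ hSG))
  -- hence `[Q, S]` lies in the Fitting subgroup
  have hLel : ∀ t : ℕ, t.Prime → t ≠ q → ∀ x ∈ L, ∀ i : ℕ, x ^ t ^ i = 1 → x ∈ F := by
    intro t ht htq x hx i hi
    rw [← QuotientGroup.eq_one_iff, ← orderOf_eq_one_iff]
    have hxc : π x ∈ Cfsg.pCore q (↥G ⧸ F) := hx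
    obtain ⟨j, hj⟩ := pCore_isPGroup (p := q) (⟨π x, hxc⟩ : Cfsg.pCore q (↥G ⧸ F))
    refine Nat.eq_one_of_dvd_coprimes
      (Nat.Coprime.pow i j ((Nat.coprime_primes ht hq).mpr htq)) ?_ ?_
    · exact orderOf_dvd_of_pow_eq_one (show π x ^ t ^ i = 1 by rw [← map_pow, hi, map_one])
    · exact orderOf_dvd_of_pow_eq_one (show π x ^ q ^ j = 1 by simpa using congrArg Subtype.val hj)
  have hQ1F : ∀ y : G, (y : X) ∈ Q1 → y ∈ F := by
    intro y hy
    let D : Subgroup G := L ⊓ ⨅ (r : ℕ) (_ : r.Prime ∧ r ≠ q),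
      Subgroup.centralizer (Cfsg.pCore r G : Set G)
    have hDn : D.Normal := by
      have : (⨅ (r : ℕ) (_ : r.Prime ∧ r ≠ q),
          Subgroup.centralizer (Cfsg.pCore r G : Set G)).Normal := by
        refine Subgroup.normal_iInf_normal fun r => Subgroup.normal_iInf_normal fun _ => ?_
        have := pCore_isNormal (p := r) (G := G)
        infer_instance
      infer_instance
    refine le_fitting_of_centralizing (q := q) hDn
      (fun r hr hrq => inf_le_right.trans (iInf₂_le r ⟨hr, hrq⟩))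
      (fun t ht htq x hx i hi => hLel t ht htq x hx.1 i hi) ⟨?_, ?_⟩
    · obtain ⟨z, hz, e⟩ := hQ.1 (hQ1Q hy)
      rw [show y = z from Subtype.ext e.symm]
      exact hz
    · refine Subgroup.mem_iInf.mpr fun r => Subgroup.mem_iInf.mpr fun hr => ?_
      exact Subgroup.mem_centralizer_iff.mpr fun v hv => Subtype.ext
        (Subgroup.mem_centralizer_iff.mp (hcent r hr.1 hr.2 hy) v ⟨v, hv, rfl⟩)
  -- `L = F Q`
  have hLQ : Cfsg.pCore q (↥G ⧸ F) ≤ (Q.subgroupOf G).map π := by
    intro x hx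
    obtain ⟨y, rfl⟩ := hπ x
    have hle : L ≤ F ⊔ Q.subgroupOf G := by
      have hFL : F ≤ L := fun z hz => by
        show π z ∈ Cfsg.pCore q (↥G ⧸ F)
        rw [show π z = 1 from (QuotientGroup.eq_one_iff z).mpr hz]
        exact Subgroup.one_mem _
      have hQL : Q.subgroupOf G ≤ L := fun z hz => by
        obtain ⟨w, hw, e⟩ := hQ.1 (show (z : X) ∈ Q from hz)
        rw [show z = w from Subtype.ext e.symm]
        exact hw
      refine le_of_forall_sylow (sup_le hFL hQL) fun t ht => ?_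
      by_cases htq : t = q
      · subst htq
        refine ⟨Q.subgroupOf G, ⟨hQL, hQ.2.1.comap_subtype, ?_⟩, le_sup_right⟩
        have e : Lx.subgroupOf G = L := Subgroup.comap_map_eq_self_of_injective
          (Subgroup.subtype_injective G) L
        rw [← e, Subgroup.relIndex_subgroupOf hLG]
        exact hQ.2.2
      · obtain ⟨T, hT⟩ := exists_isSylowIn t L
        refine ⟨T, hT, le_trans (fun z hz => ?_) le_sup_left⟩
        obtain ⟨i, hi⟩ := hT.2.1 ⟨z, hz⟩
        exact hLel t ht.out htq z (hT.1 hz) i (congrArg Subtype.val hi)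
    have := Subgroup.mem_map_of_mem π (hle (show y ∈ L from hx))
    rwa [Subgroup.map_sup, QuotientGroup.map_mk'_self, bot_sup_eq] at this
  -- the image of `S` centralizes `O_q`
  have hSc : (S.subgroupOf G).map π ≤
      Subgroup.centralizer (Cfsg.pCore q (↥G ⧸ F) : Set (↥G ⧸ F)) := by
    rintro _ ⟨z, hz, rfl⟩
    rw [Subgroup.mem_centralizer_iff]
    intro x hx
    obtain ⟨y, hy, rfl⟩ := hLQ hx
    rw [← commutatorElement_eq_one_iff_mul_comm, ← map_commutatorElement]
    refine (QuotientGroup.eq_one_iff _).mpr (hQ1F _ ?_)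
    exact Subgroup.commutator_mem_commutator (show (y : X) ∈ Q from hy) (show (z : X) ∈ S from hz)
  -- Frattini argument
  have hNsurj : Function.Surjective (π.comp (N.subgroupOf G).subtype) := by
    intro x
    obtain ⟨g, rfl⟩ := hπ x
    have hsm : MulAut.conj (g : X) • Lx = Lx := by
      rw [← mem_normalizer_iff_smul]
      exact Subgroup.le_normalizer_of_normal (Subgroup.mem_top (g : X))
    obtain ⟨u, hu, hu'⟩ := hQ.conj (hQ.smul (g := (g : X)) hsm)
    obtain ⟨u, huL, rfl⟩ := hu
    obtain ⟨v, hv, hv'⟩ := hLQ (show π u ∈ _ from huL)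
    have hn : ((u⁻¹ * g : G) : X) ∈ Subgroup.normalizer (Q : Set X) := by
      rw [mem_normalizer_iff_smul]
      show MulAut.conj ((u : X)⁻¹ * g) • Q = Q
      rw [← conj_smul_conj_smul, ← hu', conj_smul_conj_smul]
      simp
    refine ⟨⟨v * (u⁻¹ * g), G.mul_mem v.2 (u⁻¹ * g).2, ?_⟩, ?_⟩
    · exact Subgroup.mul_mem _ (Subgroup.le_normalizer hv) hn
    · show π (v * (u⁻¹ * g)) = π g
      rw [map_mul, hv', ← map_mul, mul_inv_cancel_left]
  refine hS.2.2 (hdvd.trans ((Subgroup.index_dvd_of_le hSc).trans ?_))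
  have h1 := Subgroup.index_map_dvd ((S.subgroupOf G).subgroupOf (N.subgroupOf G)) hNsurj
  have hSN' : S.subgroupOf G ≤ N.subgroupOf G := Subgroup.comap_mono hS.1
  rw [← Subgroup.map_map, Subgroup.subgroupOf_map_subtype, inf_eq_left.mpr hSN'] at h1
  refine h1.trans (dvd_of_eq ?_)
  show (S.subgroupOf G).relIndex (N.subgroupOf G) = _
  rw [Subgroup.relIndex_subgroupOf inf_le_left]

end Cfsg.Agent.Grp
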